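import Groth.Agent.GrModLib.Section
import Groth.Agent.QCohLib.Criterion

/-! The sheaf of a graded module is quasi-coherent. -/

set_option autoImplicit false
set_option linter.style.haveILetI false
set_option backward.isDefEq.respectTransparency false

universe u

open CategoryTheory TopologicalSpace AlgebraicGeometry Opposite
open HomogeneousLocalization

noncomputable section

namespace Groth.Agent.GrModLib

variable {A σ : Type u} [CommRing A] [SetLike σ A] [AddSubgroupClass σ A] {𝒜 : ℕ → σ} [GradedRing 𝒜]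
variable {M τ : Type u} [AddCommGroup M] [Module A M] [SetLike τ M] [AddSubgroupClass τ M]
  {ℳ : ℕ → τ} [DirectSum.Decomposition ℳ] [SetLike.GradedSMul 𝒜 ℳ]

omit [DirectSum.Decomposition ℳ] in
theorem iSup_basicOpen_pos :
    ⨆ (q : {q : ℕ × A // 0 < q.1 ∧ q.2 ∈ 𝒜 q.1}), Proj.basicOpen 𝒜 q.1.2 = ⊤ := by
  classical
  refine eq_top_iff.2 fun x _ => ?_
  obtain ⟨k, g, hk, hg, hxg⟩ : ∃ (k : ℕ) (g : A), 0 < k ∧ g ∈ 𝒜 k ∧ g ∉ x.asHomogeneousIdeal := by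
    by_contra hne
    push Not at hne
    refine x.not_irrelevant_le fun a ha => ?_
    show a ∈ x.asHomogeneousIdeal.toIdeal
    rw [← DirectSum.sum_support_decompose 𝒜 a]
    refine Ideal.sum_mem _ fun i _ => ?_
    rcases Nat.eq_zero_or_pos i with rfl | hi
    · rw [show (DirectSum.decompose 𝒜 a 0 : A) = 0 from (HomogeneousIdeal.mem_irrelevant_iff 𝒜 a).1 ha]
      exact zero_mem _
    · exact hne i _ hi (DirectSum.decompose 𝒜 a i).2
  exact Opens.mem_iSup.2 ⟨⟨(k, g), hk, hg⟩, hxg⟩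

/-- The value of a function on `D₊(f)` given by an element of the chart ring. -/
theorem val_awayToSection {d : ℕ} {f : A} (hf : f ∈ 𝒜 d) (k : ℕ) (b : A) (hb : b ∈ 𝒜 (k • d))
    (x : Proj.basicOpen 𝒜 f) :
    ((Proj.awayToSection 𝒜 f (Away.mk 𝒜 hf k b hb) : GrTwist.O (𝒜 := 𝒜) (op (Proj.basicOpen 𝒜 f))).1 x).val =
      (Localization.mk b ⟨f ^ k, fun h => x.2 (x.1.isPrime.mem_of_pow_mem k h)⟩ : GrTwist.Loc 𝒜 x.1) := by
  show HomogeneousLocalization.val (HomogeneousLocalization.mk _) = _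
  rw [HomogeneousLocalization.val_mk]
  rfl

theorem exists_awayToSection {d : ℕ} (hd : 0 < d) {f : A} (hf : f ∈ 𝒜 d)
    (g : Γ(Proj 𝒜, Proj.basicOpen 𝒜 f)) :
    ∃ (k : ℕ) (b : A) (hb : b ∈ 𝒜 (k • d)), g = Proj.awayToSection 𝒜 f (Away.mk 𝒜 hf k b hb) := by
  have : IsIso (Proj.awayToSection 𝒜 f) := by
    rw [← Proj.basicOpenIsoAway_hom 𝒜 f hf hd]
    infer_instance
  obtain ⟨z, rfl⟩ := (ConcreteCategory.bijective_of_isIso (Proj.awayToSection 𝒜 f)).2 g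
  obtain ⟨k, b, hb, rfl⟩ := Away.mk_surjective 𝒜 hf z
  exact ⟨k, b, hb, rfl⟩

theorem basicOpen_awayToSection {d : ℕ} {f : A} (hf : f ∈ 𝒜 d) (k : ℕ) (b : A) (hb : b ∈ 𝒜 (k • d)) :
    (Proj 𝒜).basicOpen (Proj.awayToSection 𝒜 f (Away.mk 𝒜 hf k b hb)) = Proj.basicOpen 𝒜 (f * b) := by
  have key : ∀ (x : Proj 𝒜) (hx : x ∈ Proj.basicOpen 𝒜 f),
      IsUnit ((Proj 𝒜).presheaf.germ _ x hx (Proj.awayToSection 𝒜 f (Away.mk 𝒜 hf k b hb))) ↔
        b ∉ x.asHomogeneousIdeal := by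
    intro x hx
    refine (isUnit_map_iff (Proj.stalkIso' 𝒜 x) _).symm.trans ?_
    erw [Proj.stalkIso'_germ]
    rw [← HomogeneousLocalization.isUnit_iff_isUnit_val, val_awayToSection hf k b hb ⟨x, hx⟩,
      Localization.mk_eq_mk', IsLocalization.AtPrime.isUnit_mk'_iff _ x.asHomogeneousIdeal.toIdeal]
    rfl
  rw [Proj.basicOpen_mul]
  ext x
  constructor
  · intro h
    have hxU := (Proj 𝒜).basicOpen_le _ h
    exact ⟨hxU, (key x hxU).1 ((Scheme.mem_basicOpen _ _ x hxU).1 h)⟩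
  · rintro ⟨hxU, ha⟩
    exact (Scheme.mem_basicOpen _ _ x hxU).2 ((key x hxU).2 ha)

omit [DirectSum.Decomposition ℳ] in
theorem valAt_pow_smul {n : ℤ} {d : ℕ} {f : A} (hf : f ∈ 𝒜 d) (k : ℕ) (b : A) (hb : b ∈ 𝒜 (k • d))
    {V : (Proj 𝒜).Opens} (hV : V ≤ Proj.basicOpen 𝒜 f) (N : ℕ) (t : Γ(GrMod.tilde 𝒜 ℳ n, V)) (x : V) :
    valAt ((Proj 𝒜).presheaf.map (homOfLE hV).op ((Proj.awayToSection 𝒜 f (Away.mk 𝒜 hf k b hb)) ^ N) • t) x =
      (Localization.mk b ⟨f ^ k, fun h => hV x.2 (x.1.isPrime.mem_of_pow_mem k h)⟩ :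
        GrTwist.Loc 𝒜 x.1) ^ N • valAt t x := by
  rw [valAt_smul]
  congr 1
  show ((Proj.awayToSection 𝒜 f (Away.mk 𝒜 hf k b hb) : GrTwist.O (𝒜 := 𝒜) (op (Proj.basicOpen 𝒜 f))).1
    ⟨x.1, hV x.2⟩ ^ N).val = _
  rw [HomogeneousLocalization.val_pow, val_awayToSection]

theorem locAt_basicOpen (n : ℤ) {d : ℕ} (hd : 0 < d) {f : A} (hf : f ∈ 𝒜 d) :
    QCohLib.LocAt (GrMod.tilde 𝒜 ℳ n) (Proj.basicOpen 𝒜 f) where
  extend g t := by
    obtain ⟨k, b, hb, rfl⟩ := exists_awayToSection hd hf g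
    have hfb : f * b ∈ 𝒜 (d + k • d) := SetLike.mul_mem_graded hf hb
    have heq := basicOpen_awayToSection hf k b hb
    obtain ⟨e, i, m, hi, hm⟩ := exists_frac_eq (ℳ := ℳ) (n := n) (Nat.add_pos_left hd (k • d)) hfb
      ((GrMod.tilde 𝒜 ℳ n).presheaf.map (homOfLE heq.ge).op t)
    refine ⟨e, frac 𝒜 ℳ m (⟨f ^ ((k + 1) * e), by simpa [smul_eq_mul] using SetLike.pow_mem_graded _ hf⟩ :
      𝒜 ((k + 1) * e * d)) n (by rw [hi, smul_eq_mul]; push_cast; ring) (fun x hx hm =>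
        hx (x.isPrime.mem_of_pow_mem _ hm)), ?_⟩
    rw [CohBase.sc_apply]
    refine sect_ext fun x => ?_
    have hx : x.1 ∈ Proj.basicOpen 𝒜 (f * b) := heq.le x.2
    rw [valAt_res, valAt_frac, valAt_pow_smul hf k b hb ((Proj 𝒜).basicOpen_le _) e t x,
      show valAt t x = _ from hm ⟨x.1, hx⟩, Localization.mk_pow, LocalizedModule.mk_smul_mk, LocalizedModule.mk_eq]
    refine ⟨1, ?_⟩
    simp only [one_smul]
    show ((f ^ k) ^ e * (f * b) ^ e) • m.1 = f ^ ((k + 1) * e) • b ^ e • m.1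
    rw [smul_smul]
    congr 1
    ring
  kill g s hs := by
    obtain ⟨k, b, hb, rfl⟩ := exists_awayToSection hd hf g
    have hfb : f * b ∈ 𝒜 (d + k • d) := SetLike.mul_mem_graded hf hb
    have heq := basicOpen_awayToSection hf k b hb
    obtain ⟨e, i, m, hi, hm⟩ := exists_frac_eq (ℳ := ℳ) (n := n) hd hf s
    obtain ⟨N, hN⟩ := exists_pow_smul_eq_zero' (Nat.add_pos_left hd (k • d)) hfb m
      (fun x => ⟨f ^ e, fun h => x.2 (Ideal.mul_mem_right _ _ (x.1.isPrime.mem_of_pow_mem e h))⟩) fun x => by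
        have hxf : x.1 ∈ Proj.basicOpen 𝒜 f := fun h => x.2 (Ideal.mul_mem_right _ _ h)
        refine (hm ⟨x.1, hxf⟩).symm.trans ?_
        exact congrArg (fun z => valAt z (⟨x.1, heq.ge x.2⟩ : (Proj 𝒜).basicOpen _)) hs
    refine ⟨N, ?_⟩
    rw [CohBase.sc_apply]
    refine sect_ext fun x => ?_
    rw [valAt_pow_smul hf k b hb le_rfl N s x, show valAt s x = _ from hm x, Localization.mk_pow,
      LocalizedModule.mk_smul_mk, valAt_zero, mk_eq_zero]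
    exact ⟨f ^ N, fun h => x.2 (x.1.isPrime.mem_of_pow_mem N h), by rw [smul_smul, ← mul_pow, hN]⟩

theorem isQCoh_tilde (n : ℤ) : Coh.IsQCoh (GrMod.tilde 𝒜 ℳ n) :=
  QCohLib.isQCoh_of_locAt _ (fun q : {q : ℕ × A // 0 < q.1 ∧ q.2 ∈ 𝒜 q.1} => Proj.basicOpen 𝒜 q.1.2)
    (fun q => Proj.isAffineOpen_basicOpen 𝒜 _ q.2.2 q.2.1) iSup_basicOpen_pos
    fun q => locAt_basicOpen n q.2.1 q.2.2

end Groth.Agent.GrModLib
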