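import Groth.Agent.GrModLib.Stalk
import Groth.Agent.GrModLib.QCoh

/-! Local behaviour of the maps induced by graded homomorphisms. -/

set_option autoImplicit false
set_option linter.style.haveILetI false
set_option backward.isDefEq.respectTransparency false

universe u

open CategoryTheory TopologicalSpace AlgebraicGeometry Opposite

noncomputable section

namespace Groth.Agent.GrModLib

variable {A σ : Type u} [CommRing A] [SetLike σ A] [AddSubgroupClass σ A] {𝒜 : ℕ → σ} [GradedRing 𝒜]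
variable {M τ : Type u} [AddCommGroup M] [Module A M] [SetLike τ M] [AddSubgroupClass τ M]
  {ℳ : ℕ → τ} [DirectSum.Decomposition ℳ] [SetLike.GradedSMul 𝒜 ℳ]
variable {N τ' : Type u} [AddCommGroup N] [Module A N] [SetLike τ' N] [AddSubgroupClass τ' N]
  {𝒩 : ℕ → τ'} [DirectSum.Decomposition 𝒩] [SetLike.GradedSMul 𝒜 𝒩]

/-- An element killed by something outside a homogeneous prime is killed by a homogeneous one. -/
theorem exists_homogeneous_ann (x : ProjectiveSpectrum 𝒜) {i : ℕ} {m : M} (hm : m ∈ ℳ i) {a : A}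
    (hax : a ∉ x.asHomogeneousIdeal) (ha : a • m = 0) :
    ∃ (k : ℕ) (c : A), c ∈ 𝒜 k ∧ c ∉ x.asHomogeneousIdeal ∧ c • m = 0 := by
  classical
  obtain ⟨k, hk⟩ : ∃ k, (DirectSum.decompose 𝒜 a k : A) ∉ x.asHomogeneousIdeal := by
    by_contra hne
    push Not at hne
    refine hax ?_
    show a ∈ x.asHomogeneousIdeal.toIdeal
    rw [← DirectSum.sum_support_decompose 𝒜 a]
    exact Ideal.sum_mem _ fun k _ => hne k
  exact ⟨k, _, (DirectSum.decompose 𝒜 a k).2, hk, decompose_smul_eq_zero hm ha k⟩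

theorem exists_mem_pos_notMem (x : ProjectiveSpectrum 𝒜) :
    ∃ (e : ℕ) (g : A), 0 < e ∧ g ∈ 𝒜 e ∧ g ∉ x.asHomogeneousIdeal := by
  obtain ⟨⟨⟨e, g⟩, he, hg⟩, hx⟩ := Opens.mem_iSup.1
    ((iSup_basicOpen_pos (𝒜 := 𝒜)).ge (show x ∈ (⊤ : (Proj 𝒜).Opens) from trivial))
  exact ⟨e, g, he, hg, hx⟩

set_option linter.unusedSectionVars false

variable {u : M →ₗ[A] N} {hu : ∀ i m, m ∈ ℳ i → u m ∈ 𝒩 i}

/-- Local lifts along `u`. -/
theorem exists_local_lift {n : ℤ} {V : (Proj 𝒜).Opens} (σ₀ : Γ(GrMod.tilde 𝒜 𝒩 n, V)) (y : V)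
    (H : ∀ (i j : ℕ) (m : 𝒩 i) (t : 𝒜 j) (ht : t.1 ∉ y.1.asHomogeneousIdeal),
      valAt σ₀ y = LocalizedModule.mk m.1 ⟨t.1, ht⟩ →
        ∃ (k : ℕ) (c : A) (z : ℳ (k + i)), c ∈ 𝒜 k ∧ c ∉ y.1.asHomogeneousIdeal ∧ u z.1 = c • m.1) :
    ∃ (W : (Proj 𝒜).Opens) (hW : W ≤ V), y.1 ∈ W ∧ ∃ τ₀ : Γ(GrMod.tilde 𝒜 ℳ n, W),
      (GrMod.map 𝒜 u hu n).app W τ₀ = (GrMod.tilde 𝒜 𝒩 n).presheaf.map (homOfLE hW).op σ₀ := by
  obtain ⟨W₀, hyW, iW, i, j, m, t, nin, he, hw⟩ := ((σ₀ : GrMod.sect 𝒜 𝒩 n (op V))).2 y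
  rcases he with he | he
  · obtain ⟨k, c, z, hc, hcy, hz⟩ := H i j m t (nin ⟨y.1, hyW⟩) (hw ⟨y.1, hyW⟩)
    refine ⟨W₀ ⊓ Proj.basicOpen 𝒜 c, inf_le_left.trans iW.le, ⟨hyW, hcy⟩,
      frac 𝒜 ℳ z (⟨c * t.1, SetLike.mul_mem_graded hc t.2⟩ : 𝒜 (k + j)) n (by push_cast; omega)
        (fun x hx hm => (x.isPrime.mem_or_mem hm).elim hx.2 (nin ⟨x, hx.1⟩)), sect_ext fun x => ?_⟩
    refine (GrMod.map_app_val u hu n _ _ x).trans ?_
    rw [show GrMod.val (frac 𝒜 ℳ z _ n _ _) x = _ from valAt_frac _ _ _ _ _ x, GrMod.locMap_mk, valAt_res, hz]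
    refine (LocalizedModule.mk_eq.2 ⟨1, ?_⟩).trans (hw ⟨x.1, x.2.1⟩).symm
    simp only [one_smul]
    show t.1 • c • m.1 = (c * t.1) • m.1
    rw [mul_comm, mul_smul]
  · refine ⟨W₀, iW.le, hyW, 0, sect_ext fun x => ?_⟩
    rw [map_zero, valAt_zero, valAt_res]
    exact (((hw x).trans (by rw [he, LocalizedModule.zero_mk]))).symm

/-- `u` is injective in high degrees: the induced map is injective at every point. -/
theorem valAt_eq_zero_of_map {n : ℤ} {V : (Proj 𝒜).Opens} (σ₀ : Γ(GrMod.tilde 𝒜 ℳ n, V)) {n₀ : ℕ}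
    (hinj : ∀ k, n₀ ≤ k → ∀ m ∈ ℳ k, u m = 0 → m = 0)
    (h : (GrMod.map 𝒜 u hu n).app V σ₀ = 0) (y : V) : valAt σ₀ y = 0 := by
  obtain ⟨i, j, m, t, ht, -, hq⟩ := exists_rep (((σ₀ : GrMod.sect 𝒜 ℳ n (op V))).1 y).2
  change valAt σ₀ y = _ at hq
  have h0 : valAt ((GrMod.map 𝒜 u hu n).app V σ₀) y = 0 := by rw [h, valAt_zero]
  rw [show valAt ((GrMod.map 𝒜 u hu n).app V σ₀) y = _ from GrMod.map_app_val u hu n V σ₀ y,
    show GrMod.val σ₀ y = _ from hq, GrMod.locMap_mk, mk_eq_zero] at h0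
  obtain ⟨a, hay, ha⟩ := h0
  obtain ⟨k, c, hc, hcy, hcm⟩ := exists_homogeneous_ann y.1 (hu i m.1 m.2) hay ha
  obtain ⟨e, g, he, hg, hgy⟩ := exists_mem_pos_notMem y.1
  have hmem : (g ^ n₀ * c) • m.1 ∈ ℳ (n₀ • e + k + i) :=
    SetLike.GradedSMul.smul_mem (SetLike.mul_mem_graded (SetLike.pow_mem_graded n₀ hg) hc) m.2
  have hz := hinj (n₀ • e + k + i) (by simp only [smul_eq_mul]; nlinarith) _ hmem
    (by rw [map_smul, mul_smul, hcm, smul_zero])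
  rw [hq, mk_eq_zero]
  exact ⟨g ^ n₀ * c, fun hm => (y.1.isPrime.mem_or_mem hm).elim
    (fun h' => hgy (y.1.isPrime.mem_of_pow_mem n₀ h')) hcy, hz⟩

theorem exists_lift_of_surj {n₀ : ℕ} (hsurj : ∀ k, n₀ ≤ k → ∀ m' ∈ 𝒩 k, ∃ m ∈ ℳ k, u m = m')
    (y : ProjectiveSpectrum 𝒜) {i : ℕ} (m : 𝒩 i) :
    ∃ (k : ℕ) (c : A) (z : ℳ (k + i)), c ∈ 𝒜 k ∧ c ∉ y.asHomogeneousIdeal ∧ u z.1 = c • m.1 := by
  obtain ⟨e, g, he, hg, hgy⟩ := exists_mem_pos_notMem y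
  obtain ⟨z, hz, huz⟩ := hsurj (n₀ • e + i) (by simp only [smul_eq_mul]; nlinarith) (g ^ n₀ • m.1)
    (SetLike.GradedSMul.smul_mem (SetLike.pow_mem_graded n₀ hg) m.2)
  exact ⟨n₀ • e, g ^ n₀, ⟨z, hz⟩, SetLike.pow_mem_graded n₀ hg,
    fun h => hgy (y.isPrime.mem_of_pow_mem n₀ h), huz⟩

theorem exists_lift_of_exact {P τ'' : Type u} [AddCommGroup P] [Module A P] [SetLike τ'' P]
    [AddSubgroupClass τ'' P] {𝒬 : ℕ → τ''} [DirectSum.Decomposition 𝒬] [SetLike.GradedSMul 𝒜 𝒬]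
    {v : N →ₗ[A] P} {hv : ∀ i m, m ∈ 𝒩 i → v m ∈ 𝒬 i} (hu : ∀ i m, m ∈ ℳ i → u m ∈ 𝒩 i)
    (hex : Function.Exact u v) {n : ℤ} {V : (Proj 𝒜).Opens} (σ₀ : Γ(GrMod.tilde 𝒜 𝒩 n, V))
    (h : (GrMod.map 𝒜 v hv n).app V σ₀ = 0) (y : V) {i j : ℕ} (m : 𝒩 i) (t : 𝒜 j)
    (ht : t.1 ∉ y.1.asHomogeneousIdeal) (hq : valAt σ₀ y = LocalizedModule.mk m.1 ⟨t.1, ht⟩) :
    ∃ (k : ℕ) (c : A) (z : ℳ (k + i)), c ∈ 𝒜 k ∧ c ∉ y.1.asHomogeneousIdeal ∧ u z.1 = c • m.1 := by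
  classical
  have h0 : valAt ((GrMod.map 𝒜 v hv n).app V σ₀) y = 0 := by rw [h, valAt_zero]
  rw [show valAt ((GrMod.map 𝒜 v hv n).app V σ₀) y = _ from GrMod.map_app_val v hv n V σ₀ y,
    show GrMod.val σ₀ y = _ from hq, GrMod.locMap_mk, mk_eq_zero] at h0
  obtain ⟨a, hay, ha⟩ := h0
  obtain ⟨k, c, hc, hcy, hcm⟩ := exists_homogeneous_ann y.1 (hv i m.1 m.2) hay ha
  obtain ⟨w, hw⟩ := (hex (c • m.1)).1 (by rw [map_smul, hcm])
  have hmem : c • m.1 ∈ 𝒩 (k + i) := SetLike.GradedSMul.smul_mem hc m.2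
  refine ⟨k, c, DirectSum.decompose ℳ w (k + i), hc, hcy, ?_⟩
  have key : ∀ (w : M) (l : ℕ), u (DirectSum.decompose ℳ w l : M) = (DirectSum.decompose 𝒩 (u w) l : N) := by
    intro w l
    induction w using DirectSum.Decomposition.inductionOn ℳ with
    | zero => simp
    | @homogeneous i' b =>
      by_cases hl : i' = l
      · subst hl
        rw [DirectSum.decompose_of_mem_same ℳ b.2, DirectSum.decompose_of_mem_same 𝒩 (hu i' b.1 b.2)]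
      · rw [DirectSum.decompose_of_mem_ne ℳ b.2 hl, DirectSum.decompose_of_mem_ne 𝒩 (hu i' b.1 b.2) hl, map_zero]
    | add a b ha hb => simp [ha, hb]
  rw [key, hw, DirectSum.decompose_of_mem_same 𝒩 hmem]

end Groth.Agent.GrModLib
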