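import Groth.Agent.GrModLib.QCoh
import Groth.Agent.GrModLib.Stalk
import Groth.Agent.ParaFLib.Gen

/-! The twisting sheaf as the sheaf of the graded module `A`; its generators. -/

set_option autoImplicit false
set_option linter.style.haveILetI false
set_option backward.isDefEq.respectTransparency false

universe u

open CategoryTheory TopologicalSpace AlgebraicGeometry Opposite
open Groth.Agent.ParaFLib

noncomputable section

namespace Groth.Agent.GrModLib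

variable {A σ : Type u} [CommRing A] [SetLike σ A] [AddSubgroupClass σ A] (𝒜 : ℕ → σ) [GradedRing 𝒜]

theorem twistAt_eq (n : ℤ) (x : ProjectiveSpectrum 𝒜) (q : GrTwist.Loc 𝒜 x) :
    q ∈ GrTwist.twistAt 𝒜 n x ↔ (q : GrMod.LocMod 𝒜 (M := A) x) ∈ GrMod.tildeAt 𝒜 𝒜 n x := by
  constructor
  · intro hq
    induction hq using Submodule.span_induction with
    | mem q hq =>
      obtain ⟨i, j, m, s, hs, he, rfl⟩ := hq
      exact Submodule.subset_span ⟨i, j, m, s, hs, he, rfl⟩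
    | zero => exact zero_mem _
    | add a b _ _ ha hb => exact add_mem ha hb
    | smul c a _ ha =>
      have h := Submodule.smul_mem (GrMod.tildeAt 𝒜 𝒜 n x) c ha
      exact (show c • a = _ from Algebra.smul_def c a) ▸ h
  · intro hq
    induction hq using Submodule.span_induction with
    | mem q hq =>
      obtain ⟨i, j, m, s, hs, he, rfl⟩ := hq
      exact Submodule.subset_span ⟨i, j, m, s, hs, he, rfl⟩
    | zero => exact zero_mem _
    | add a b _ _ ha hb => exact add_mem ha hb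
    | smul c a _ ha =>
      have h := Submodule.smul_mem (GrTwist.twistAt 𝒜 n x) c ha
      exact (show c • a = _ from Algebra.smul_def c a) ▸ h

/-- `O(n) ⟶ A(n)~`. -/
def twistToTilde (n : ℤ) : GrTwist.twist 𝒜 n ⟶ GrMod.tilde 𝒜 𝒜 n :=
  SheafOfModules.Hom.mk <| PresheafOfModules.homMk
      { app := fun U => AddCommGrpCat.ofHom
          { toFun := fun f : GrTwist.sectN (𝒜 := 𝒜) n U =>
              (⟨fun x => ⟨(f.1 x).1, (twistAt_eq 𝒜 n _ _).1 (f.1 x).2⟩, f.2⟩ : GrMod.sect 𝒜 𝒜 n U)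
            map_zero' := rfl
            map_add' := fun _ _ => rfl }
        naturality := fun U V i => rfl }
      (fun U c f => by
        refine Subtype.ext (funext fun x => Subtype.ext ?_)
        exact (GrTwist.coe_smul_val n x.1 (c.1 x) (f.1 x)).trans
          (GrMod.coe_smul_val n x.1 (c.1 x) ⟨(f.1 x).1, (twistAt_eq 𝒜 n _ _).1 (f.1 x).2⟩).symm)

instance isIso_twistToTilde (n : ℤ) : IsIso (twistToTilde 𝒜 n) :=
  Scheme.Modules.Hom.isIso_iff_isIso_app.2 fun U => by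
    rw [ConcreteCategory.isIso_iff_bijective]
    refine ⟨fun f g h => ?_, fun f => ?_⟩
    · refine Subtype.ext (funext fun x => Subtype.ext ?_)
      exact congrArg (fun z : GrMod.sect 𝒜 𝒜 n (op U) => (z.1 x).1) h
    · exact ⟨(⟨fun x => ⟨(f.1 x).1, (twistAt_eq 𝒜 n _ _).2 (f.1 x).2⟩, f.2⟩ :
        GrTwist.sectN (𝒜 := 𝒜) n (op U)), rfl⟩

/-- `O(n) ≅ A(n)~`. -/
def twistIso (n : ℤ) : GrTwist.twist 𝒜 n ≅ GrMod.tilde 𝒜 𝒜 n := asIso (twistToTilde 𝒜 n)

theorem valAt_twistToTilde (n : ℤ) {V : (Proj 𝒜).Opens} (t : Γ(GrTwist.twist 𝒜 n, V)) (y : V) :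
    valAt ((twistToTilde 𝒜 n).app V t) y = GrTwist.val t y := rfl

theorem isQCoh_twist (n : ℤ) : Coh.IsQCoh (GrTwist.twist 𝒜 n) :=
  (SheafOfModules.isQuasicoherent (Proj 𝒜).ringCatSheaf).prop_of_iso (twistIso 𝒜 n).symm
    (isQCoh_tilde (𝒜 := 𝒜) (ℳ := 𝒜) n)

variable {𝒜}

theorem gen_frac {i j : ℕ} (a : 𝒜 i) (s : 𝒜 j) (n : ℤ) (h : (i : ℤ) = j + n) {V : (Proj 𝒜).Opens}
    (hV : V ≤ Proj.basicOpen 𝒜 s.1) (hV' : V ≤ Proj.basicOpen 𝒜 a.1) : Gen V (frac 𝒜 𝒜 a s n h hV) := by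
  intro O hO
  simp only [frac_res]
  have hval : ∀ (r : Γ(Proj 𝒜, O)) (x : O),
      valAt (r • frac 𝒜 𝒜 a s n h (hO.trans hV)) x =
        (((r : GrTwist.O (𝒜 := 𝒜) (op O)).1 x).val * Localization.mk a.1 ⟨s.1, hV (hO x.2)⟩ :
          GrTwist.Loc 𝒜 x.1) := fun r x => by rw [valAt_smul, valAt_frac]; rfl
  have hunit : ∀ x : O, (Localization.mk s.1 ⟨a.1, hV' (hO x.2)⟩ : GrTwist.Loc 𝒜 x.1) *
      Localization.mk a.1 ⟨s.1, hV (hO x.2)⟩ = 1 := fun x => by
    rw [Localization.mk_mul]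
    refine Eq.trans ?_ (Localization.mk_self (⟨a.1, hV' (hO x.2)⟩ * ⟨s.1, hV (hO x.2)⟩))
    exact congrArg (fun z => Localization.mk z _) (mul_comm _ _)
  refine ⟨fun r r' e => ?_, fun v => ?_⟩
  · refine Subtype.ext (funext fun x => HomogeneousLocalization.val_injective _ ?_)
    have e' := (hval r x).symm.trans ((congrArg (fun z => valAt z x) e).trans (hval r' x))
    have key : ∀ z : GrTwist.Loc 𝒜 x.1, z = (z * Localization.mk a.1 ⟨s.1, hV (hO x.2)⟩) *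
        Localization.mk s.1 ⟨a.1, hV' (hO x.2)⟩ := fun z => by
      rw [mul_assoc, mul_comm (Localization.mk a.1 _), hunit, mul_one]
    rw [key (HomogeneousLocalization.val _), e', ← key]
  · have hq : ∀ x : O, ∃ c : GrTwist.A0 𝒜 x.1, c.val = (valAt v x : GrTwist.Loc 𝒜 x.1) *
        Localization.mk s.1 ⟨a.1, hV' (hO x.2)⟩ := fun x => by
      obtain ⟨i₁, j₁, m, t, ht, he, hq⟩ := exists_rep (((v : GrMod.sect 𝒜 𝒜 n (op O)).1 x).2)
      have hmem : m.1 * s.1 ∈ 𝒜 (j₁ + i) := by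
        rcases he with he | he
        · exact (show i₁ + j = j₁ + i by omega) ▸ SetLike.mul_mem_graded m.2 s.2
        · rw [he, zero_mul]; exact zero_mem _
      refine ⟨.mk ⟨j₁ + i, ⟨_, hmem⟩, ⟨t.1 * a.1, SetLike.mul_mem_graded t.2 a.2⟩,
        fun hh => (x.1.isPrime.mem_or_mem hh).elim ht (hV' (hO x.2))⟩, ?_⟩
      rw [HomogeneousLocalization.val_mk, show (valAt v x : GrTwist.Loc 𝒜 x.1) = Localization.mk m.1 ⟨t.1, ht⟩ from hq,
        Localization.mk_mul]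
      rfl
    choose c hc using hq
    have hloc : (ProjectiveSpectrum.StructureSheaf.isLocallyFraction 𝒜).pred (U := O) c := fun x => by
      obtain ⟨W, hxW, iW, i₁, j₁, m, t, nin, he, hw⟩ := ((v : GrMod.sect 𝒜 𝒜 n (op O))).2 x
      have hmem : m.1 * s.1 ∈ 𝒜 (j₁ + i) := by
        rcases he with he | he
        · exact (show i₁ + j = j₁ + i by omega) ▸ SetLike.mul_mem_graded m.2 s.2
        · rw [he, zero_mul]; exact zero_mem _
      refine ⟨W, hxW, iW, j₁ + i, ⟨_, hmem⟩, ⟨t.1 * a.1, SetLike.mul_mem_graded t.2 a.2⟩,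
        fun y hh => (y.1.isPrime.mem_or_mem hh).elim (nin y) (hV' (hO (iW.le y.2))), fun y => ?_⟩
      refine HomogeneousLocalization.val_injective _ ?_
      rw [hc, HomogeneousLocalization.val_mk]
      refine (congrArg (fun z : GrTwist.Loc 𝒜 y.1 => z * Localization.mk s.1 ⟨a.1, hV' (hO (iW.le y.2))⟩) (hw y)).trans ?_
      exact Localization.mk_mul _ _ _ _
    refine ⟨(⟨c, hloc⟩ : GrTwist.O (𝒜 := 𝒜) (op O)), sect_ext fun x => (hval _ x).trans ?_⟩
    show (c x).val * Localization.mk a.1 ⟨s.1, hV (hO x.2)⟩ = _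
    rw [hc, mul_assoc, hunit, mul_one]

theorem exists_mem_one_notMem (hgen : (HomogeneousIdeal.irrelevant 𝒜).toIdeal = Ideal.span (𝒜 1 : Set A))
    (x : Proj 𝒜) : ∃ g : 𝒜 1, x ∈ Proj.basicOpen 𝒜 g.1 := by
  by_contra hne
  push Not at hne
  refine x.not_irrelevant_le (show (HomogeneousIdeal.irrelevant 𝒜).toIdeal ≤ x.asHomogeneousIdeal.toIdeal from ?_)
  rw [hgen, Ideal.span_le]
  exact fun g hg => not_not.1 (hne ⟨g, hg⟩)

theorem exists_gen_tilde (hgen : (HomogeneousIdeal.irrelevant 𝒜).toIdeal = Ideal.span (𝒜 1 : Set A))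
    (n : ℤ) (x : Proj 𝒜) :
    ∃ (W : (Proj 𝒜).Opens) (u : Γ(GrMod.tilde 𝒜 𝒜 n, W)), x ∈ W ∧ Gen W u := by
  obtain ⟨g, hg⟩ := exists_mem_one_notMem hgen x
  have hp : ∀ k : ℕ, g.1 ^ k ∈ 𝒜 k := fun k => by simpa using SetLike.pow_mem_graded k g.2
  have hle : ∀ k : ℕ, Proj.basicOpen 𝒜 g.1 ≤ Proj.basicOpen 𝒜 (g.1 ^ k) := fun k y hy hm =>
    hy (y.isPrime.mem_of_pow_mem k hm)
  exact ⟨Proj.basicOpen 𝒜 g.1,
    frac 𝒜 𝒜 (⟨_, hp n.toNat⟩ : 𝒜 n.toNat) (⟨_, hp (-n).toNat⟩ : 𝒜 (-n).toNat) n (by omega) (hle _), hg,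
    gen_frac _ _ n _ (hle _) (hle _)⟩

end Groth.Agent.GrModLib
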