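import Groth.Agent.GrModLib.Comap
import Groth.Agent.GrModLib.QCoh

/-! Sections over the basic opens: exactness, and the comparison along a bijective semilinear map. -/

set_option autoImplicit false
set_option linter.style.haveILetI false
set_option linter.unusedSectionVars false
set_option backward.isDefEq.respectTransparency false

universe u

open CategoryTheory TopologicalSpace AlgebraicGeometry Opposite
open scoped HomogeneousIdeal

noncomputable section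

namespace Groth.Agent.GrModLib

variable {A σ : Type u} [CommRing A] [SetLike σ A] [AddSubgroupClass σ A] {𝒜 : ℕ → σ} [GradedRing 𝒜]
variable {M τ : Type u} [AddCommGroup M] [Module A M] [SetLike τ M] [AddSubgroupClass τ M]
  {ℳ : ℕ → τ} [DirectSum.Decomposition ℳ] [SetLike.GradedSMul 𝒜 ℳ]

/-- The basic opens of positive degree form a basis. -/
theorem exists_basicOpen_le {V : (Proj 𝒜).Opens} {x : Proj 𝒜} (hx : x ∈ V) :
    ∃ (e : ℕ) (g : A), 0 < e ∧ g ∈ 𝒜 e ∧ x ∈ Proj.basicOpen 𝒜 g ∧ Proj.basicOpen 𝒜 g ≤ V := by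
  classical
  obtain ⟨_, ⟨a, rfl⟩, hxa, haV⟩ :=
    (ProjectiveSpectrum.isTopologicalBasis_basic_opens 𝒜).exists_subset_of_mem_open hx V.2
  obtain ⟨e₀, g₀, he₀, hg₀, hxg₀⟩ := exists_mem_pos_notMem x
  obtain ⟨k, hk⟩ : ∃ k, (DirectSum.decompose 𝒜 a k : A) ∉ x.asHomogeneousIdeal := by
    by_contra hne
    push Not at hne
    refine hxa ?_
    show a ∈ x.asHomogeneousIdeal.toIdeal
    rw [← DirectSum.sum_support_decompose 𝒜 a]
    exact Ideal.sum_mem _ fun k _ => hne k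
  refine ⟨k + e₀, (DirectSum.decompose 𝒜 a k : A) * g₀, by omega,
    SetLike.mul_mem_graded (DirectSum.decompose 𝒜 a k).2 hg₀,
    fun h => (x.isPrime.mem_or_mem h).elim hk hxg₀, fun y hy => haV ?_⟩
  intro hay
  exact hy (Ideal.mul_mem_right _ _ (y.asHomogeneousIdeal.isHomogeneous k hay))

section exact

variable {N τ' : Type u} [AddCommGroup N] [Module A N] [SetLike τ' N] [AddSubgroupClass τ' N]
  {𝒩 : ℕ → τ'} [DirectSum.Decomposition 𝒩] [SetLike.GradedSMul 𝒜 𝒩]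
  {Q τ'' : Type u} [AddCommGroup Q] [Module A Q] [SetLike τ'' Q] [AddSubgroupClass τ'' Q]
  {𝒬 : ℕ → τ''} [DirectSum.Decomposition 𝒬] [SetLike.GradedSMul 𝒜 𝒬]

theorem exact_app_basicOpen {u : M →ₗ[A] N} (hu : ∀ i m, m ∈ ℳ i → u m ∈ 𝒩 i) {v : N →ₗ[A] Q}
    (hv : ∀ i m, m ∈ 𝒩 i → v m ∈ 𝒬 i) (hex : Function.Exact u v) (n : ℤ) {d : ℕ} (hd : 0 < d) {f : A}
    (hf : f ∈ 𝒜 d) :
    Function.Exact ((GrMod.map 𝒜 u hu n).app (Proj.basicOpen 𝒜 f))
      ((GrMod.map 𝒜 v hv n).app (Proj.basicOpen 𝒜 f)) := by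
  classical
  intro s
  constructor
  · intro hs
    obtain ⟨p, i, m, hi, hm⟩ := exists_frac_eq (ℳ := 𝒩) hd hf s
    obtain ⟨N₀, hN⟩ := exists_pow_smul_eq_zero' (ℳ := 𝒬) hd hf (⟨v m.1, hv i _ m.2⟩ : 𝒬 i)
      (fun x => ⟨f ^ p, fun h => x.2 (x.1.isPrime.mem_of_pow_mem p h)⟩) fun x => by
        have h0 : valAt ((GrMod.map 𝒜 v hv n).app (Proj.basicOpen 𝒜 f) s) x = 0 := by rw [hs, valAt_zero]
        rw [show valAt ((GrMod.map 𝒜 v hv n).app _ s) x = _ from GrMod.map_app_val v hv n _ s x,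
          show GrMod.val s x = _ from hm x, GrMod.locMap_mk] at h0
        exact h0
    obtain ⟨w, hw⟩ := (hex (f ^ N₀ • m.1)).1 (by rw [map_smul]; exact hN)
    have hf' : ∀ k : ℕ, f ^ k ∈ 𝒜 (k * d) := fun k => by
      simpa [smul_eq_mul] using SetLike.pow_mem_graded k hf
    have hmem : f ^ N₀ • m.1 ∈ 𝒩 (N₀ * d + i) := SetLike.GradedSMul.smul_mem (hf' N₀) m.2
    refine ⟨frac 𝒜 ℳ (DirectSum.decompose ℳ w (N₀ * d + i)) (⟨f ^ (N₀ + p), hf' _⟩ : 𝒜 ((N₀ + p) * d)) n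
      (by push_cast; linarith) (fun x hx h => hx (x.isPrime.mem_of_pow_mem _ h)), sect_ext fun x => ?_⟩
    refine (GrMod.map_app_val u hu n _ _ x).trans ?_
    rw [show GrMod.val (frac 𝒜 ℳ _ _ n _ _) x = _ from valAt_frac _ _ _ _ _ x, GrMod.locMap_mk]
    have hwc : u (DirectSum.decompose ℳ w (N₀ * d + i) : M) = f ^ N₀ • m.1 := by
      have h1 := decompose_map (𝒜 := 𝒜) (ℬ := 𝒜) (ψ := GradedRingHom.id 𝒜) (v := u) (ℳ := ℳ) (𝒩 := 𝒩) hu w
        (N₀ * d + i)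
      rw [h1, hw, DirectSum.decompose_of_mem_same 𝒩 hmem]
    rw [hwc]
    refine (LocalizedModule.mk_eq.2 ⟨1, ?_⟩).trans (hm x).symm
    simp only [one_smul]
    show f ^ p • f ^ N₀ • m.1 = f ^ (N₀ + p) • m.1
    rw [smul_smul, ← pow_add, add_comm]
  · rintro ⟨t, rfl⟩
    refine sect_ext fun x => ?_
    refine (GrMod.map_app_val v hv n _ _ x).trans ?_
    rw [show GrMod.val ((GrMod.map 𝒜 u hu n).app (Proj.basicOpen 𝒜 f) t) x = _ from GrMod.map_app_val u hu n _ t x,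
      valAt_zero]
    generalize GrMod.val t x = q
    induction q using LocalizedModule.induction_on with
    | h m s => rw [GrMod.locMap_mk, GrMod.locMap_mk, hex.apply_apply_eq_zero, LocalizedModule.zero_mk]

end exact

section semilinear

variable {B σ' : Type u} [CommRing B] [SetLike σ' B] [AddSubgroupClass σ' B] {ℬ : ℕ → σ'} [GradedRing ℬ]
variable {N τ' : Type u} [AddCommGroup N] [Module B N] [SetLike τ' N] [AddSubgroupClass τ' N]
  {𝒩 : ℕ → τ'} [DirectSum.Decomposition 𝒩] [SetLike.GradedSMul ℬ 𝒩]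

theorem comap_app_bijective (ψ : 𝒜 →+*ᵍ ℬ) (hψ : ℬ₊ ≤ (𝒜₊).map ψ) (v : M →ₛₗ[ψ.toRingHom] N)
    (hv : ∀ (i : ℕ) (m : M), m ∈ ℳ i → v m ∈ 𝒩 i) (hbij : Function.Bijective v) (n : ℤ)
    {d : ℕ} (hd : 0 < d) {f : A} (hf : f ∈ 𝒜 d) :
    Function.Bijective ((GrMod.comap ψ hψ v hv n).app (Proj.basicOpen 𝒜 f)) := by
  classical
  have hψf : ψ f ∈ ℬ d := ψ.map_mem hf
  have hψp : ∀ k, ψ (f ^ k) = ψ f ^ k := fun k => map_pow ψ f k
  constructor
  · refine (injective_iff_map_eq_zero _).2 fun s hs => ?_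
    obtain ⟨p, i, m, hi, hm⟩ := exists_frac_eq (ℳ := ℳ) hd hf s
    obtain ⟨N₀, hN⟩ := exists_pow_smul_eq_zero' (ℳ := 𝒩) hd hψf (⟨v m.1, hv i _ m.2⟩ : 𝒩 i)
      (fun y => ⟨ψ (f ^ p), fun h => y.2 (y.1.isPrime.mem_of_pow_mem p (by rwa [hψp] at h))⟩) fun y => by
        have h0 : valAt ((GrMod.comap ψ hψ v hv n).app (Proj.basicOpen 𝒜 f) s) y = 0 := by rw [hs, valAt_zero]
        rw [show valAt ((GrMod.comap ψ hψ v hv n).app _ s) y = _ from GrMod.comap_app_val ψ hψ v hv n _ s y,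
          show GrMod.val s ⟨ProjectiveSpectrum.comap ψ hψ y.1, y.2⟩ = _ from hm _, GrMod.locModMap_mk] at h0
        exact h0
    have hz : f ^ N₀ • m.1 = 0 := hbij.1 (by
      rw [LinearMap.map_smulₛₗ, show ψ.toRingHom (f ^ N₀) = ψ (f ^ N₀) from rfl, hψp, hN, map_zero])
    refine sect_ext fun x => ?_
    rw [hm x, valAt_zero, mk_eq_zero]
    exact ⟨f ^ N₀, fun h => x.2 (x.1.isPrime.mem_of_pow_mem N₀ h), hz⟩
  · intro σ₀
    obtain ⟨p, i, n', hi, hm⟩ := exists_frac_eq (ℳ := 𝒩) hd hψf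
      (σ₀ : Γ(GrMod.tilde ℬ 𝒩 n, Proj.basicOpen ℬ (ψ f)))
    obtain ⟨m₀, hm₀⟩ := hbij.2 n'.1
    refine ⟨frac 𝒜 ℳ (DirectSum.decompose ℳ m₀ i) (⟨f ^ p, by
      simpa [smul_eq_mul] using SetLike.pow_mem_graded p hf⟩ : 𝒜 (p * d)) n (by push_cast; linarith)
      (fun x hx h => hx (x.isPrime.mem_of_pow_mem _ h)), sect_ext fun y => ?_⟩
    refine (GrMod.comap_app_val ψ hψ v hv n _ _ y).trans ?_
    rw [show GrMod.val (frac 𝒜 ℳ _ _ n _ _) ⟨ProjectiveSpectrum.comap ψ hψ y.1, y.2⟩ = _ from valAt_frac _ _ _ _ _ _,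
      GrMod.locModMap_mk]
    refine Eq.trans ?_ (hm y).symm
    refine congr (congrArg LocalizedModule.mk ?_) (Subtype.ext (hψp p))
    rw [decompose_map hv, hm₀, DirectSum.decompose_of_mem_same 𝒩 n'.2]

end semilinear

end Groth.Agent.GrModLib
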