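import Groth.Agent.GrModLib.QCoh
import Groth.Agent.GrModLib.Section
import Groth.Prelude.Def_RelProj3
import Groth.Agent.PullbackMod.Props
import Groth.Agent.ASBunKS.CoverIso

/-!
# Dehomogenisation at an element of degree one, and base change of `M(n)~`

For `f` of degree one every element of `A` gives a function on `D₊(f)` and every element of `M` a section of
`M(n)~` over `D₊(f)`; a universal semilinear map then induces an isomorphism after inverse image.
-/

set_option autoImplicit false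
set_option linter.style.haveILetI false
set_option linter.unusedSectionVars false
set_option backward.isDefEq.respectTransparency false

universe u

open CategoryTheory TopologicalSpace AlgebraicGeometry Opposite DirectSum
open HomogeneousLocalization
open scoped HomogeneousIdeal

noncomputable section

namespace Groth.Agent.GrModLib

variable {A σ : Type u} [CommRing A] [SetLike σ A] [AddSubgroupClass σ A] {𝒜 : ℕ → σ} [GradedRing 𝒜]
variable {M τ : Type u} [AddCommGroup M] [Module A M] [SetLike τ M] [AddSubgroupClass τ M]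
  {ℳ : ℕ → τ} [DirectSum.Decomposition ℳ] [SetLike.GradedSMul 𝒜 ℳ]

variable {f : A} (hf : f ∈ 𝒜 1)

include hf in
theorem pow_mem_one (k : ℕ) : f ^ k ∈ 𝒜 k := by simpa using SetLike.pow_mem_graded k hf

theorem pow_notMem {x : Proj.basicOpen 𝒜 f} (k : ℕ) : f ^ k ∉ x.1.asHomogeneousIdeal :=
  fun h => x.2 (x.1.isPrime.mem_of_pow_mem k h)

/-- A homogeneous element divided by the power of `f` of its degree. -/
def awayPiece (e : ℕ) : 𝒜 e →+ Away 𝒜 f :=
  AddMonoidHom.mk' (fun a => Away.mk 𝒜 hf e a.1 (by simp)) fun a b => by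
    apply HomogeneousLocalization.val_injective
    rw [HomogeneousLocalization.val_add, Away.val_mk, Away.val_mk, Away.val_mk, Localization.add_mk_self]
    rfl

/-- Dehomogenisation at `f`. -/
def dehom : A →+* Γ(Proj 𝒜, Proj.basicOpen 𝒜 f) :=
  (Proj.awayToSection 𝒜 f).hom.comp
    ((DirectSum.toSemiring (awayPiece hf) (by
        apply HomogeneousLocalization.val_injective
        rw [awayPiece, AddMonoidHom.mk'_apply, Away.val_mk, HomogeneousLocalization.val_one,
          ← Localization.mk_one]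
        exact congrArg₂ Localization.mk rfl (Subtype.ext (pow_zero f))) (fun {i j} a b => by
        apply HomogeneousLocalization.val_injective
        rw [HomogeneousLocalization.val_mul, awayPiece, awayPiece, awayPiece, AddMonoidHom.mk'_apply,
          AddMonoidHom.mk'_apply, AddMonoidHom.mk'_apply, Away.val_mk, Away.val_mk, Away.val_mk, Localization.mk_mul]
        congr 1
        exact Subtype.ext (pow_add f i j))).comp (DirectSum.decomposeRingEquiv 𝒜).toRingHom)

theorem dehom_hom {e : ℕ} {a : A} (ha : a ∈ 𝒜 e) :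
    dehom hf a = Proj.awayToSection 𝒜 f (Away.mk 𝒜 hf e a (by simpa using ha)) := by
  have h : (DirectSum.decomposeRingEquiv 𝒜).toRingHom a = DirectSum.of (fun i => 𝒜 i) e ⟨a, ha⟩ :=
    DirectSum.decompose_of_mem 𝒜 ha
  simp only [dehom, RingHom.comp_apply]
  rw [h, DirectSum.toSemiring_of]
  rfl

theorem val_dehom {e : ℕ} {a : A} (ha : a ∈ 𝒜 e) (x : Proj.basicOpen 𝒜 f) :
    ((dehom hf a : GrTwist.O (𝒜 := 𝒜) (op (Proj.basicOpen 𝒜 f))).1 x).val =
      (Localization.mk a ⟨f ^ e, pow_notMem e⟩ : GrTwist.Loc 𝒜 x.1) := by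
  rw [dehom_hom hf ha]
  exact val_awayToSection hf e a _ x

theorem dehom_self : dehom hf f = 1 := by
  rw [dehom_hom hf hf, show Away.mk 𝒜 hf 1 f (by simpa using hf) = 1 from ?_, map_one]
  apply HomogeneousLocalization.val_injective
  rw [Away.val_mk, HomogeneousLocalization.val_one]
  exact (congrArg₂ Localization.mk (pow_one f).symm rfl).trans
    (Localization.mk_self (⟨f ^ 1, 1, rfl⟩ : Submonoid.powers f))

theorem dehom_surjective : Function.Surjective (dehom hf) := fun g => by
  obtain ⟨k, b, hb, rfl⟩ := exists_awayToSection one_pos hf g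
  exact ⟨b, dehom_hom hf (by simpa using hb)⟩

variable (ℳ) (n : ℤ)

theorem dePiece_deg (i : ℕ) : ((n.toNat + i : ℕ) : ℤ) = ((i + (-n).toNat : ℕ) : ℤ) + n := by omega

/-- A homogeneous element of `M` as a section over `D₊(f)`. -/
def dePiece (i : ℕ) : ℳ i →+ Γ(GrMod.tilde 𝒜 ℳ n, Proj.basicOpen 𝒜 f) :=
  AddMonoidHom.mk'
    (fun m => frac 𝒜 ℳ (⟨f ^ n.toNat • m.1, SetLike.GradedSMul.smul_mem (pow_mem_one hf _) m.2⟩ : ℳ (n.toNat + i))
      (⟨f ^ (i + (-n).toNat), pow_mem_one hf _⟩ : 𝒜 (i + (-n).toNat)) n (dePiece_deg n i)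
      fun x hx hm => hx (x.isPrime.mem_of_pow_mem _ hm))
    fun m m' => sect_ext fun x => by
      rw [valAt_add, valAt_frac, valAt_frac, valAt_frac, LocalizedModule.mk_add_mk, LocalizedModule.mk_eq]
      refine ⟨1, ?_⟩
      simp only [one_smul, Submonoid.smul_def, Submonoid.coe_mul, AddMemClass.coe_add, smul_add, mul_smul]

/-- An element of `M` as a section over `D₊(f)`. -/
def deSect : M →+ Γ(GrMod.tilde 𝒜 ℳ n, Proj.basicOpen 𝒜 f) :=
  (DirectSum.toAddMonoid (dePiece ℳ hf n)).comp (DirectSum.decomposeAddEquiv ℳ).toAddMonoidHom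

variable {ℳ}

theorem valAt_deSect {i : ℕ} {m : M} (hm : m ∈ ℳ i) (x : Proj.basicOpen 𝒜 f) :
    valAt (deSect ℳ hf n m) x = (LocalizedModule.mk (f ^ n.toNat • m) ⟨f ^ (i + (-n).toNat), pow_notMem _⟩ :
      GrMod.LocMod 𝒜 (M := M) x.1) := by
  show valAt (DirectSum.toAddMonoid (dePiece ℳ hf n) (DirectSum.decompose ℳ m)) x = _
  rw [DirectSum.decompose_of_mem ℳ hm, DirectSum.toAddMonoid_of]
  rfl

theorem deSect_smul (a : A) (m : M) : deSect ℳ hf n (a • m) = dehom hf a • deSect ℳ hf n m := by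
  induction m using DirectSum.Decomposition.inductionOn ℳ with
  | zero => simp
  | add y z hy hz => rw [smul_add, map_add, hy, hz, map_add, smul_add]
  | @homogeneous i m =>
    induction a using DirectSum.Decomposition.inductionOn 𝒜 with
    | zero => simp
    | add a b ha hb => rw [add_smul, map_add, ha, hb, map_add, add_smul]
    | @homogeneous e a =>
      refine sect_ext fun x => ?_
      rw [valAt_smul, val_dehom hf a.2 x, valAt_deSect hf n (SetLike.GradedSMul.smul_mem a.2 m.2),
        valAt_deSect hf n m.2, LocalizedModule.mk_smul_mk, LocalizedModule.mk_eq]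
      refine ⟨1, ?_⟩
      simp only [one_smul, Submonoid.smul_def, Submonoid.coe_mul, smul_smul, vadd_eq_add]
      congr 1
      ring

theorem deSect_self_smul (m : M) : deSect ℳ hf n (f • m) = deSect ℳ hf n m := by
  rw [deSect_smul, dehom_self, one_smul]

theorem deSect_surjective : Function.Surjective (deSect ℳ hf n) := fun s => by
  obtain ⟨p, i, m, hi, hm⟩ := exists_frac_eq (ℳ := ℳ) one_pos hf s
  refine ⟨m.1, sect_ext fun x => ?_⟩
  rw [hm x, valAt_deSect hf n m.2, LocalizedModule.mk_eq]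
  refine ⟨1, ?_⟩
  simp only [one_smul]
  show f ^ p • f ^ n.toNat • m.1 = f ^ (i + (-n).toNat) • m.1
  rw [smul_smul, ← pow_add]
  congr 2
  omega

theorem deSect_eq_zero {i : ℕ} {m : M} (hm : m ∈ ℳ i) (h : deSect ℳ hf n m = 0) : ∃ N : ℕ, f ^ N • m = 0 := by
  obtain ⟨N, hN⟩ := exists_pow_smul_eq_zero' (ℳ := ℳ) one_pos hf
    (⟨f ^ n.toNat • m, SetLike.GradedSMul.smul_mem (pow_mem_one hf _) hm⟩ : ℳ (n.toNat + i))
    (fun x => ⟨f ^ (i + (-n).toNat), pow_notMem _⟩) fun x => by
      rw [← valAt_deSect hf n hm x, h, valAt_zero]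
  exact ⟨N + n.toNat, by rw [pow_add, mul_smul]; exact hN⟩

include hf in
/-- Any element may be replaced by a homogeneous one without changing its images. -/
theorem exists_homogenize (z : M) : ∃ (E : ℕ) (z' : M), z' ∈ ℳ E ∧
    ∀ {Q : Type u} [AddCommGroup Q] (L : M →+ Q), (∀ x, L (f • x) = L x) → L z' = L z := by
  have hp : ∀ {Q : Type u} [AddCommGroup Q] (L : M →+ Q), (∀ x, L (f • x) = L x) → ∀ k x, L (f ^ k • x) = L x := by
    intro Q _ L hL k x
    induction k with
    | zero => rw [pow_zero, one_smul]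
    | succ k ih => rw [pow_succ', mul_smul, hL, ih]
  induction z using DirectSum.Decomposition.inductionOn ℳ with
  | zero => exact ⟨0, 0, zero_mem _, fun L _ => rfl⟩
  | @homogeneous i m => exact ⟨i, m, m.2, fun L _ => rfl⟩
  | add y z hy hz =>
    obtain ⟨E, y', hy', hyL⟩ := hy
    obtain ⟨E', z', hz', hzL⟩ := hz
    refine ⟨E' + E, f ^ E' • y' + f ^ E • z', add_mem (SetLike.GradedSMul.smul_mem (pow_mem_one hf E') hy')
      ((Nat.add_comm E E' : E + E' = E' + E) ▸ SetLike.GradedSMul.smul_mem (pow_mem_one hf E) hz'), fun L hL => ?_⟩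
    rw [map_add, map_add, hp L hL, hp L hL, hyL L hL, hzL L hL]

section BaseChange

variable {B σ' : Type u} [CommRing B] [SetLike σ' B] [AddSubgroupClass σ' B] {ℬ : ℕ → σ'} [GradedRing ℬ]
variable {N τ' : Type u} [AddCommGroup N] [Module B N] [SetLike τ' N] [AddSubgroupClass τ' N]
  {𝒩 : ℕ → τ'} [DirectSum.Decomposition 𝒩] [SetLike.GradedSMul ℬ 𝒩]
include hf in
theorem mapOne (ψ : 𝒜 →+*ᵍ ℬ) : ψ f ∈ ℬ 1 := ψ.map_mem hf

variable (ψ : 𝒜 →+*ᵍ ℬ) (hψ : ℬ₊ ≤ (𝒜₊).map ψ) (v : M →ₛₗ[ψ.toRingHom] N)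
  (hv : ∀ (i : ℕ) (m : M), m ∈ ℳ i → v m ∈ 𝒩 i)

theorem appLE_dehom (a : A) :
    (Proj.map ψ hψ).appLE (Proj.basicOpen 𝒜 f) (Proj.basicOpen ℬ (ψ f)) (le_refl _) (dehom hf a) =
      dehom (mapOne hf ψ) (ψ a) := by
  induction a using DirectSum.Decomposition.inductionOn 𝒜 with
  | zero => rw [map_zero, map_zero, map_zero ψ, map_zero]
  | add a b ha hb => rw [map_add, map_add, ha, hb, map_add ψ, map_add]
  | @homogeneous e a =>
    rw [dehom_hom hf a.2]
    erw [dehom_hom (mapOne hf ψ) (ψ.map_mem a.2)]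
    refine (ConcreteCategory.congr_hom (Proj.awayToSection_comp_appLE ψ hψ hf) _).trans ?_
    show Proj.awayToSection ℬ (ψ f) (Away.map ψ f _) = _
    rw [Away.map_mk]
    rfl

include hv in
theorem comap_app_deSect (m : M) :
    (GrMod.comap ψ hψ v hv n).app (Proj.basicOpen 𝒜 f) (deSect ℳ hf n m) =
      (deSect 𝒩 (mapOne hf ψ) n (v m) : Γ(GrMod.tilde ℬ 𝒩 n, Proj.basicOpen ℬ (ψ f))) := by
  induction m using DirectSum.Decomposition.inductionOn ℳ with
  | zero => simp only [map_zero]
  | add y z hy hz => simp only [map_add]; exact congrArg₂ (· + ·) hy hz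
  | @homogeneous i m =>
    refine sect_ext fun y => ?_
    refine (GrMod.comap_app_val ψ hψ v hv n _ _ y).trans ?_
    rw [show GrMod.val (deSect ℳ hf n (m : M)) ⟨ProjectiveSpectrum.comap ψ hψ y.1, y.2⟩ = _ from
      valAt_deSect hf n m.2 _, GrMod.locModMap_mk, valAt_deSect (mapOne hf ψ) n (hv i _ m.2)]
    refine congr (congrArg LocalizedModule.mk ?_) (Subtype.ext (map_pow ψ f _))
    rw [LinearMap.map_smulₛₗ]
    exact congrArg (· • v (m : M)) (map_pow ψ f _)

include hf hv in
/-- The adjunct is bijective over `D₊(ψ f)` when `v` is universal. -/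
theorem bijective_adjunct
    (hbc : ∀ (Q : Type u) [AddCommGroup Q] [Module B Q] (w : M →ₛₗ[ψ.toRingHom] Q),
      ∃! g : N →ₗ[B] Q, ∀ m : M, g (v m) = w m) :
    Function.Bijective ((((Scheme.Modules.pullbackPushforwardAdjunction (Proj.map ψ hψ)).homEquiv _ _).symm
      (GrMod.comap ψ hψ v hv n)).app (Proj.basicOpen ℬ (ψ f))) := by
  let g := Proj.map ψ hψ
  let adj := Scheme.Modules.pullbackPushforwardAdjunction g
  let F := GrMod.tilde 𝒜 ℳ n
  let G := GrMod.tilde ℬ 𝒩 n
  let W := Proj.basicOpen 𝒜 f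
  let W' := Proj.basicOpen ℬ (ψ f)
  let ν := (adj.homEquiv F G).symm (GrMod.comap ψ hψ v hv n)
  haveI : Coh.IsQCoh F := isQCoh_tilde n
  have hνP : ∀ x : Γ(F, W), ν.app W' (PullbackMod.pullMap g F (le_refl W') x) =
      (GrMod.comap ψ hψ v hv n).app W x := by
    intro x
    have h := ConcreteCategory.congr_hom (congrArg (fun φ : F ⟶ (Scheme.Modules.pushforward g).obj G => φ.app W)
      ((adj.homEquiv_unit (f := ν)).symm.trans (Equiv.apply_symm_apply _ _))) x
    refine Eq.trans ?_ h
    refine congrArg (ν.app W') ?_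
    exact ConcreteCategory.congr_hom (((Scheme.Modules.pullback g).obj F).presheaf.map_id (op W')) _
  letI : Module B Γ((Scheme.Modules.pullback g).obj F, W') := Module.compHom _ (dehom (mapOne hf ψ))
  letI : Module B Γ(G, W') := Module.compHom _ (dehom (mapOne hf ψ))
  let w : M →ₛₗ[ψ.toRingHom] Γ((Scheme.Modules.pullback g).obj F, W') :=
    { toFun := fun m => PullbackMod.pullMap g F (le_refl W') (deSect ℳ hf n m)
      map_add' := fun a b => by rw [map_add, map_add]
      map_smul' := fun a m => by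
        show PullbackMod.pullMap g F (le_refl W') (deSect ℳ hf n (a • m)) =
          dehom (mapOne hf ψ) (ψ a) • PullbackMod.pullMap g F (le_refl W') (deSect ℳ hf n m)
        rw [deSect_smul, PullbackMod.pullMap_smul, appLE_dehom] }
  obtain ⟨gl, hgl, -⟩ := hbc _ w
  let νl : Γ((Scheme.Modules.pullback g).obj F, W') →ₗ[B] Γ(G, W') :=
    { toFun := ν.app W'
      map_add' := map_add _
      map_smul' := fun b z => Scheme.Modules.Hom.app_smul ν (dehom (mapOne hf ψ) b) z }
  let T' : N →ₗ[B] Γ(G, W') :=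
    { toFun := deSect 𝒩 (mapOne hf ψ) n
      map_add' := map_add _
      map_smul' := fun b z => deSect_smul (mapOne hf ψ) n b z }
  let w' : M →ₛₗ[ψ.toRingHom] Γ(G, W') :=
    { toFun := fun m => T' (v m)
      map_add' := fun a b => by rw [map_add, map_add]
      map_smul' := fun a m => by rw [LinearMap.map_smulₛₗ, map_smul] }
  have hfac : νl.comp gl = T' := by
    obtain ⟨g₀, -, hu⟩ := hbc _ w'
    refine (hu _ fun m => ?_).trans (hu _ fun m => rfl).symm
    show ν.app W' (gl (v m)) = _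
    rw [hgl m]
    exact (hνP _).trans (comap_app_deSect hf n ψ hψ v hv m)
  have hνg : ∀ z, ν.app W' (gl z) = deSect 𝒩 (mapOne hf ψ) n z := fun z => LinearMap.congr_fun hfac z
  have hgrange : Function.Surjective gl := by
    letI : Algebra Γ(Proj 𝒜, W) Γ(Proj ℬ, W') := (g.appLE W W' (le_refl W')).hom.toAlgebra
    letI := Module.compHom Γ((Scheme.Modules.pullback g).obj F, W') (g.appLE W W' (le_refl W')).hom
    haveI : IsScalarTower Γ(Proj 𝒜, W) Γ(Proj ℬ, W') Γ((Scheme.Modules.pullback g).obj F, W') :=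
      .of_algebraMap_smul fun _ _ => rfl
    intro y
    induction y using (PullbackMod.isBaseChange_pullMapL g F (Proj.isAffineOpen_basicOpen 𝒜 f hf one_pos)
      (Proj.isAffineOpen_basicOpen ℬ (ψ f) (mapOne hf ψ) one_pos) (le_refl W')).inductionOn with
    | zero => exact ⟨0, map_zero _⟩
    | tmul x =>
      obtain ⟨m, rfl⟩ := deSect_surjective hf n x
      exact ⟨v m, hgl m⟩
    | smul s y hy =>
      obtain ⟨z, rfl⟩ := hy
      obtain ⟨b, rfl⟩ := dehom_surjective (mapOne hf ψ) s
      exact ⟨b • z, map_smul gl b z⟩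
    | add y y' hy hy' =>
      obtain ⟨z, rfl⟩ := hy
      obtain ⟨z', rfl⟩ := hy'
      exact ⟨z + z', map_add _ _ _⟩
  refine ⟨(injective_iff_map_eq_zero _).2 fun y hy => ?_, fun σ₀ => ?_⟩
  · obtain ⟨z, rfl⟩ := hgrange y
    obtain ⟨E, z', hz', hzL⟩ := exists_homogenize (mapOne hf ψ) (ℳ := 𝒩) z
    have hgf : ∀ x, gl (ψ f • x) = gl x := fun x => by
      rw [map_smul]
      show dehom (mapOne hf ψ) (ψ f) • gl x = gl x
      rw [dehom_self, one_smul]
    have h0 : deSect 𝒩 (mapOne hf ψ) n z' = 0 := by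
      rw [hzL _ (deSect_self_smul (mapOne hf ψ) n), ← hνg]
      exact hy
    obtain ⟨K, hK⟩ := deSect_eq_zero (mapOne hf ψ) n hz' h0
    have hp : ∀ k x, gl (ψ f ^ k • x) = gl x := fun k x => by
      induction k with
      | zero => rw [pow_zero, one_smul]
      | succ k ih => rw [pow_succ', mul_smul, hgf, ih]
    have := hzL gl.toAddMonoidHom hgf
    show gl z = 0
    rw [← show gl z' = gl z from this, ← hp K, hK, map_zero]
  · obtain ⟨z, rfl⟩ := deSect_surjective (mapOne hf ψ) n (σ₀ : Γ(G, W'))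
    exact ⟨gl z, hνg z⟩

end BaseChange

end Groth.Agent.GrModLib
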