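import Groth.Agent.GrModLib.Section
import Mathlib.RingTheory.Noetherian.Basic

/-!
# `M_n → Γ(Proj, M(n)~)` is bijective for large `n`, generators in any positive degrees

All comparisons are made on families of values at the points, so no transport between degrees is needed.
-/

set_option autoImplicit false
set_option linter.style.haveILetI false
set_option linter.unusedSectionVars false
set_option backward.isDefEq.respectTransparency false

universe u

open CategoryTheory TopologicalSpace AlgebraicGeometry Opposite DirectSum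

noncomputable section

namespace Groth.Agent.GrModLib

variable {A σ : Type u} [CommRing A] [SetLike σ A] [AddSubgroupClass σ A] {𝒜 : ℕ → σ} [GradedRing 𝒜]
variable {M τ : Type u} [AddCommGroup M] [Module A M] [SetLike τ M] [AddSubgroupClass τ M]
  {ℳ : ℕ → τ} [DirectSum.Decomposition ℳ] [SetLike.GradedSMul 𝒜 ℳ]

variable (ℳ) in
/-- The component in one degree. -/
def cp (n : ℕ) : M →+ M :=
  AddMonoidHom.mk' (fun z => ((DirectSum.decompose ℳ z n : ℳ n) : M)) fun y z => by simp

theorem cp_mem (n : ℕ) (z : M) : cp ℳ n z ∈ ℳ n := (DirectSum.decompose ℳ z n).2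

theorem cp_same {n : ℕ} {z : M} (h : z ∈ ℳ n) : cp ℳ n z = z := DirectSum.decompose_of_mem_same ℳ h

theorem cp_smul {e : ℕ} {a : A} (ha : a ∈ 𝒜 e) (n : ℕ) (z : M) : cp ℳ (e + n) (a • z) = a • cp ℳ n z := by
  induction z using DirectSum.Decomposition.inductionOn ℳ with
  | zero => simp
  | add z z' h h' => rw [smul_add, map_add, map_add, h, h', smul_add]
  | @homogeneous i m =>
    have hm : a • (m : M) ∈ ℳ (e + i) := SetLike.GradedSMul.smul_mem ha m.2
    by_cases h : i = n
    · subst h
      rw [cp_same hm, cp_same m.2]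
    · show ((DirectSum.decompose ℳ (a • (m : M)) (e + n) : ℳ _) : M) = a • ((DirectSum.decompose ℳ (m : M) n : ℳ _) : M)
      rw [DirectSum.decompose_of_mem_ne ℳ hm (show e + i ≠ e + n by omega),
        DirectSum.decompose_of_mem_ne ℳ m.2 h, smul_zero]

theorem mem_congr {k k' : ℕ} (h : k = k') {z : M} (hz : z ∈ ℳ k) : z ∈ ℳ k' := h ▸ hz

theorem exists_homogeneous_gens (hfg : (HomogeneousIdeal.irrelevant 𝒜).toIdeal.FG) :
    ∃ G : Finset A, (∀ g ∈ G, ∃ e, 0 < e ∧ g ∈ 𝒜 e) ∧
      (HomogeneousIdeal.irrelevant 𝒜).toIdeal = Ideal.span (G : Set A) := by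
  classical
  obtain ⟨s, hs⟩ := hfg
  let G : Finset A := s.biUnion fun a =>
    ((DirectSum.decompose 𝒜 a).support.erase 0).image fun e => (DirectSum.decompose 𝒜 a e : A)
  refine ⟨G, fun g hg => ?_, le_antisymm ?_ (Ideal.span_le.2 fun g hg => ?_)⟩
  · obtain ⟨a, _, hg⟩ := Finset.mem_biUnion.1 hg
    obtain ⟨e, he, rfl⟩ := Finset.mem_image.1 hg
    exact ⟨e, Nat.pos_of_ne_zero (Finset.mem_erase.1 he).1, (DirectSum.decompose 𝒜 a e).2⟩
  · rw [← hs]
    refine Ideal.span_le.2 fun a ha => ?_
    rw [SetLike.mem_coe, ← DirectSum.sum_support_decompose 𝒜 a]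
    refine Ideal.sum_mem _ fun e he => ?_
    by_cases h : e = 0
    · subst h
      rw [show (DirectSum.decompose 𝒜 a 0 : A) = 0 from
        (HomogeneousIdeal.mem_irrelevant_iff 𝒜 a).1 (hs ▸ Ideal.subset_span ha :
          a ∈ (HomogeneousIdeal.irrelevant 𝒜).toIdeal)]
      exact zero_mem _
    · exact Ideal.subset_span (Finset.mem_biUnion.2 ⟨a, ha, Finset.mem_image.2 ⟨e, Finset.mem_erase.2 ⟨h, he⟩, rfl⟩⟩)
  · obtain ⟨a, ha, hg⟩ := Finset.mem_biUnion.1 (Finset.mem_coe.1 hg)
    obtain ⟨e, he, rfl⟩ := Finset.mem_image.1 hg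
    exact HomogeneousIdeal.mem_irrelevant_of_mem 𝒜 (Nat.pos_of_ne_zero (Finset.mem_erase.1 he).1)
      (DirectSum.decompose 𝒜 a e).2

/-- An element minus its degree zero part lies in an ideal containing the irrelevant one. -/
theorem sub_zero_mem {I : Ideal A} (hI : (HomogeneousIdeal.irrelevant 𝒜).toIdeal ≤ I) (c : A) :
    c - (DirectSum.decompose 𝒜 c 0 : A) ∈ I :=
  hI ((HomogeneousIdeal.mem_irrelevant_iff 𝒜 _).2 (by
    rw [GradedRing.proj_apply, DirectSum.decompose_sub, DFinsupp.sub_apply, AddSubgroupClass.coe_sub,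
      DirectSum.decompose_of_mem_same 𝒜 (DirectSum.decompose 𝒜 c 0).2, sub_self]))

section Bound

variable {ι : Type*} [Fintype ι] (g : ι → A) (e : ι → ℕ) (hg : ∀ i, g i ∈ 𝒜 (e i))
  (hirr : (HomogeneousIdeal.irrelevant 𝒜).toIdeal ≤ Ideal.span (Set.range g))

/-- Tuples compatible with the relations. -/
def relTuples : Submodule A (ι → M) where
  carrier := {v | ∀ i l, g l • v i = g i • v l}
  zero_mem' := fun i l => by simp
  add_mem' := fun {v w} hv hw i l => by simp [smul_add, hv i l, hw i l]
  smul_mem' := fun c v hv i l => by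
    show g l • c • v i = g i • c • v l
    rw [smul_comm, hv i l, smul_comm]

/-- The tuple of multiples. -/
def tupleMap : M →ₗ[A] ι → M := LinearMap.pi fun i => LinearMap.lsmul A M (g i)

include hg hirr

/-- Bounds on the socle and on the first relations inside a finitely generated submodule. -/
theorem socle_bound [IsNoetherianRing A] (N : Submodule A M) (hN : N.FG) (k : ℕ) (hk : ∀ n, k ≤ n → ∀ z ∈ ℳ n, z ∈ N) :
    ∃ B : ℕ, ∀ n, B ≤ n →
      (∀ v : ι → M, (∀ i, v i ∈ ℳ (n + e i)) → (∀ i l, g l • v i = g i • v l) → ∃ m ∈ ℳ n, ∀ i, v i = g i • m) ∧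
      (∀ m ∈ ℳ n, (∀ i, g i • m = 0) → m = 0) := by
  classical
  haveI : Module.Finite A N := Module.Finite.iff_fg.2 hN
  obtain ⟨P, hP⟩ := IsNoetherian.noetherian ((relTuples (M := M) g).comap (N.subtype.compLeft ι))
  obtain ⟨P', hP'⟩ := IsNoetherian.noetherian ((LinearMap.ker (tupleMap (M := M) g)).comap N.subtype)
  let B₁ := P.sup fun p => Finset.univ.sup fun i => (DirectSum.decompose ℳ (p i : M)).support.sup id
  let B₂ := P'.sup fun p => (DirectSum.decompose ℳ (p : M)).support.sup id
  refine ⟨max (max B₁ B₂ + 1) k, fun n hn => ⟨fun v hv hrel => ?_, fun m hm hgm => ?_⟩⟩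
  · let v' : ι → N := fun i => ⟨v i, hk _ (by omega) _ (hv i)⟩
    have hv' : v' ∈ (relTuples (M := M) g).comap (N.subtype.compLeft ι) := hrel
    have h0 : ∀ w ∈ (relTuples (M := M) g).comap (N.subtype.compLeft ι),
        ∃ (w₀ : ι → M) (m : M), (fun i => (w i : M)) = w₀ + tupleMap g m ∧ ∀ i, cp ℳ (n + e i) (w₀ i) = 0 := by
      intro w hw
      rw [← hP] at hw
      induction hw using Submodule.span_induction with
      | mem p hp =>
        refine ⟨fun i => (p i : M), 0, by simp, fun i => ?_⟩
        by_contra hne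
        have h1 : n + e i ∈ (DirectSum.decompose ℳ (p i : M)).support := by
          rw [DFinsupp.mem_support_toFun]
          exact fun h => hne (by simp only [cp, AddMonoidHom.mk'_apply, h, ZeroMemClass.coe_zero])
        have h2 : n + e i ≤ B₁ :=
          le_trans (le_trans (Finset.le_sup (f := id) h1)
            (Finset.le_sup (f := fun i => (DirectSum.decompose ℳ (p i : M)).support.sup id) (Finset.mem_univ i)))
            (Finset.le_sup (f := fun p : ι → N => Finset.univ.sup fun i =>
              (DirectSum.decompose ℳ (p i : M)).support.sup id) hp)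
        omega
      | zero => exact ⟨0, 0, by simp only [Pi.zero_apply, ZeroMemClass.coe_zero, map_zero, add_zero]; rfl,
          fun i => by simp⟩
      | add a b _ _ ha hb =>
        obtain ⟨a₀, ma, hae, ha⟩ := ha
        obtain ⟨b₀, mb, hbe, hb⟩ := hb
        refine ⟨a₀ + b₀, ma + mb, funext fun i => ?_, fun i => by rw [Pi.add_apply, map_add, ha, hb, add_zero]⟩
        have e1 := congrFun hae i
        have e2 := congrFun hbe i
        simp only [Pi.add_apply, Submodule.coe_add, map_add] at e1 e2 ⊢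
        rw [e1, e2]
        abel
      | smul c a hmem ha =>
        obtain ⟨a₀, ma, hae, ha⟩ := ha
        set c₀ : A := (DirectSum.decompose 𝒜 c 0 : A) with hc₀
        have hrela : ∀ i l, g l • (a i : M) = g i • (a l : M) :=
          (hP ▸ hmem : a ∈ (relTuples (M := M) g).comap (N.subtype.compLeft ι))
        obtain ⟨m', hm'⟩ : ∃ m', (c - c₀) • (fun i => (a i : M)) = tupleMap g m' := by
          obtain ⟨b, hb⟩ := Ideal.mem_span_range_iff_exists_fun.1 (sub_zero_mem hirr c)
          refine ⟨∑ l, b l • (a l : M), funext fun i => ?_⟩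
          show (c - c₀) • (a i : M) = g i • ∑ l, b l • (a l : M)
          rw [← hb, Finset.sum_smul, Finset.smul_sum]
          exact Finset.sum_congr rfl fun l _ => by rw [mul_smul, hrela i l, smul_comm]
        refine ⟨c₀ • a₀, c₀ • ma + m', funext fun i => ?_, fun i => ?_⟩
        · have e1 := congrFun hae i
          have e2 := congrFun hm' i
          simp only [Pi.add_apply, Pi.smul_apply, map_add, map_smul, Submodule.coe_smul] at e1 e2 ⊢
          rw [← e2, ← add_assoc, ← smul_add, ← e1, ← add_smul, add_sub_cancel]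
        · have := cp_smul (ℳ := ℳ) (DirectSum.decompose 𝒜 c 0).2 (n + e i) (a₀ i)
          rw [zero_add] at this
          rw [Pi.smul_apply, this, ha, smul_zero]
    obtain ⟨w₀, m, hw, hw0⟩ := h0 v' hv'
    refine ⟨cp ℳ n m, cp_mem n m, fun i => ?_⟩
    have h1 : v i = w₀ i + g i • m := congrFun hw i
    have h2 := congrArg (cp ℳ (n + e i)) h1
    rw [cp_same (hv i), map_add, hw0, zero_add, add_comm n (e i), cp_smul (hg i)] at h2
    exact h2
  · have h0 : ∀ w ∈ (LinearMap.ker (tupleMap (M := M) g)).comap N.subtype, cp ℳ n (w : M) = 0 := by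
      intro w hw
      rw [← hP'] at hw
      induction hw using Submodule.span_induction with
      | mem p hp =>
        by_contra hne
        have h1 : n ∈ (DirectSum.decompose ℳ (p : M)).support := by
          rw [DFinsupp.mem_support_toFun]
          exact fun h => hne (by simp only [cp, AddMonoidHom.mk'_apply, h, ZeroMemClass.coe_zero])
        have h2 : n ≤ B₂ :=
          le_trans (Finset.le_sup (f := id) h1) (Finset.le_sup (f := fun p : N => (DirectSum.decompose ℳ (p : M)).support.sup id) hp)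
        omega
      | zero => simp
      | add a b _ _ ha hb => rw [Submodule.coe_add, map_add, ha, hb, add_zero]
      | smul c a hmem ha =>
        have hker : ∀ i, g i • (a : M) = 0 :=
          fun i => congrFun (show tupleMap (M := M) g (a : M) = 0 from LinearMap.mem_ker.1
            (hP' ▸ hmem : a ∈ (LinearMap.ker (tupleMap (M := M) g)).comap N.subtype)) i
        obtain ⟨b, hb⟩ := Ideal.mem_span_range_iff_exists_fun.1 (sub_zero_mem hirr c)
        have hz : c • (a : M) = (DirectSum.decompose 𝒜 c 0 : A) • (a : M) := by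
          rw [← sub_eq_zero, ← sub_smul, ← hb, Finset.sum_smul]
          exact Finset.sum_eq_zero fun l _ => by rw [mul_smul, hker, smul_zero]
        have := cp_smul (ℳ := ℳ) (DirectSum.decompose 𝒜 c 0).2 n (a : M)
        rw [zero_add] at this
        rw [Submodule.coe_smul, hz, this, ha, smul_zero]
    have := h0 ⟨m, hk n (by omega) m hm⟩ (LinearMap.mem_ker.2 (funext hgm))
    rwa [cp_same hm] at this

/-- In large degrees everything is a combination of the generators. -/
theorem gen_bound (N : Submodule A M) (hN : N.FG) (k : ℕ) (hk : ∀ n, k ≤ n → ∀ z ∈ ℳ n, z ∈ N) :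
    ∃ B : ℕ, ∀ n, B ≤ n → ∀ z ∈ ℳ n, ∃ w : ι → M, (∀ i, e i ≤ n → w i ∈ ℳ (n - e i)) ∧
      z = ∑ i, if e i ≤ n then g i • w i else 0 := by
  classical
  obtain ⟨P, hP⟩ := hN
  let B₁ := P.sup fun p => (DirectSum.decompose ℳ p).support.sup id
  refine ⟨max (B₁ + 1) k, fun n hn z hz => ?_⟩
  have h0 : ∀ y ∈ N, ∃ w : ι → M, cp ℳ n y = cp ℳ n (∑ i, g i • w i) := by
    intro y hy
    rw [← hP] at hy
    induction hy using Submodule.span_induction with
    | mem p hp =>
      refine ⟨0, ?_⟩
      simp only [Pi.zero_apply, smul_zero, Finset.sum_const_zero, map_zero]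
      by_contra hne
      have h1 : n ∈ (DirectSum.decompose ℳ p).support := by
        rw [DFinsupp.mem_support_toFun]
        exact fun h => hne (by simp only [cp, AddMonoidHom.mk'_apply, h, ZeroMemClass.coe_zero])
      have h2 : n ≤ B₁ :=
        le_trans (Finset.le_sup (f := id) h1) (Finset.le_sup (f := fun p : M => (DirectSum.decompose ℳ p).support.sup id) hp)
      omega
    | zero => exact ⟨0, by simp⟩
    | add a b _ _ ha hb =>
      obtain ⟨wa, ha⟩ := ha
      obtain ⟨wb, hb⟩ := hb
      exact ⟨wa + wb, by simp [map_add, ha, hb, smul_add, Finset.sum_add_distrib]⟩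
    | smul c a _ ha =>
      obtain ⟨w, ha⟩ := ha
      obtain ⟨b, hb⟩ := Ideal.mem_span_range_iff_exists_fun.1 (sub_zero_mem hirr c)
      have hc := cp_smul (ℳ := ℳ) (DirectSum.decompose 𝒜 c 0).2 n
      simp only [zero_add] at hc
      refine ⟨fun i => (DirectSum.decompose 𝒜 c 0 : A) • w i + b i • a, ?_⟩
      have hr : ∑ i, g i • ((DirectSum.decompose 𝒜 c 0 : A) • w i + b i • a) =
          (DirectSum.decompose 𝒜 c 0 : A) • ∑ i, g i • w i + (c - (DirectSum.decompose 𝒜 c 0 : A)) • a := by
        rw [← hb, Finset.sum_smul, Finset.smul_sum, ← Finset.sum_add_distrib]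
        exact Finset.sum_congr rfl fun i _ => by
          rw [smul_add, smul_comm (g i) (DirectSum.decompose 𝒜 c 0 : A), smul_comm (g i) (b i), mul_smul]
      rw [hr, map_add, hc, ← ha, ← hc, ← map_add, ← add_smul, add_sub_cancel]
  obtain ⟨w, hw⟩ := h0 z (hk n (by omega) z hz)
  rw [cp_same hz, map_sum] at hw
  refine ⟨fun i => cp ℳ (n - e i) (w i), fun i _ => cp_mem _ _, hw.trans (Finset.sum_congr rfl fun i _ => ?_)⟩
  have hsplit : cp ℳ n (g i • w i) = if e i ≤ n then g i • cp ℳ (n - e i) (w i) else 0 := by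
    split_ifs with h
    · have := cp_smul (ℳ := ℳ) (hg i) (n - e i) (w i)
      rwa [Nat.add_sub_cancel' h] at this
    · generalize w i = y
      induction y using DirectSum.Decomposition.inductionOn ℳ with
      | zero => simp
      | add y y' hy hy' => rw [smul_add, map_add, hy, hy', add_zero]
      | @homogeneous j y =>
        show ((DirectSum.decompose ℳ (g i • (y : M)) n : ℳ _) : M) = 0
        rw [DirectSum.decompose_of_mem_ne ℳ (SetLike.GradedSMul.smul_mem (hg i) y.2) (show e i + j ≠ n by omega)]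
  exact hsplit

end Bound

/-- `g ^ c` times the family is an element of `M` in degree `n + c e`. -/
def InRange (n : ℕ) (φ : ∀ pt : ProjectiveSpectrum 𝒜, GrMod.LocMod 𝒜 (M := M) pt) (g : A) (e c : ℕ) : Prop :=
  ∃ m : M, m ∈ ℳ (n + c * e) ∧ ∀ pt, (g ^ c) • φ pt = LocalizedModule.mk m 1

/-- The bound on socle and relations for the generators is a bound for bijectivity. -/
theorem bijective_of_bound {ι : Type*} [Fintype ι] (g : ι → A) (d : ι → ℕ) (hd : ∀ i, 0 < d i)
    (hg : ∀ i, g i ∈ 𝒜 (d i)) (hirr : (HomogeneousIdeal.irrelevant 𝒜).toIdeal ≤ Ideal.span (Set.range g)) (B : ℕ)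
    (hB : ∀ n, B ≤ n →
      (∀ v : ι → M, (∀ i, v i ∈ ℳ (n + d i)) → (∀ i l, g l • v i = g i • v l) → ∃ m ∈ ℳ n, ∀ i, v i = g i • m) ∧
      (∀ m ∈ ℳ n, (∀ i, g i • m = 0) → m = 0)) :
    ∀ n : ℕ, B ≤ n → Function.Bijective (GrMod.alpha 𝒜 ℳ n) := by
  classical
  have hcov : ∀ pt : ProjectiveSpectrum 𝒜, ∃ i, g i ∉ pt.asHomogeneousIdeal := fun pt => by
    by_contra hne
    push Not at hne
    exact pt.not_irrelevant_le fun z hz =>
      (Ideal.span_le.2 (by rintro _ ⟨l, rfl⟩; exact hne l)) (hirr hz)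
  have hpowmem : ∀ (i : ι) (c : ℕ), g i ^ c ∈ 𝒜 (c * d i) := fun i c => by
    simpa using SetLike.pow_mem_graded c (hg i)
  have kill : ∀ {n : ℕ} {z : M}, z ∈ ℳ n → (∀ pt, (LocalizedModule.mk z 1 : GrMod.LocMod 𝒜 (M := M) pt) = 0) →
      ∀ l, ∃ c : ℕ, g l ^ c • z = 0 := fun {n z} hz h l =>
    exists_pow_smul_eq_zero (hd l) (hg l) (⟨z, hz⟩ : ℳ n) fun y _ => mk_eq_zero.1 (h y)
  -- injectivity
  have inj : ∀ (T : ℕ) (n : ℕ), B ≤ n → ∀ z ∈ ℳ n, ∀ (c : ι → ℕ), ∑ i, c i = T →
      (∀ i, g i ^ c i • z = 0) → z = 0 := by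
    intro T
    induction T using Nat.strong_induction_on with
    | _ T ih =>
      intro n hn z hz c hc hcz
      by_cases h0 : ∃ i, c i = 0
      · obtain ⟨i, hi⟩ := h0
        simpa [hi] using hcz i
      push Not at h0
      refine (hB n hn).2 z hz fun l => ?_
      refine ih (∑ i, Function.update c l (c l - 1) i) ?_ (d l + n) (by omega) _
        (SetLike.GradedSMul.smul_mem (hg l) hz) _ rfl fun i => ?_
      · rw [← hc]
        refine Finset.sum_lt_sum (fun i _ => ?_) ⟨l, Finset.mem_univ l, ?_⟩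
        · by_cases hil : i = l
          · subst hil; simp
          · simp [Function.update_of_ne hil]
        · have := h0 l
          simp only [Function.update_self]
          omega
      · by_cases hil : i = l
        · subst hil
          rw [Function.update_self, smul_smul, ← pow_succ, Nat.sub_add_cancel (Nat.one_le_iff_ne_zero.2 (h0 i)), hcz]
        · rw [Function.update_of_ne hil, smul_comm, hcz, smul_zero]
  have inj' : ∀ {n : ℕ}, B ≤ n → ∀ {z : M}, z ∈ ℳ n →
      (∀ pt, (LocalizedModule.mk z 1 : GrMod.LocMod 𝒜 (M := M) pt) = 0) → z = 0 := fun {n} hn {z} hz h => by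
    choose c hc using kill hz h
    exact inj _ n hn z hz c rfl hc
  -- surjectivity
  have surj : ∀ (T : ℕ) (n : ℕ), B ≤ n → ∀ (φ : ∀ pt : ProjectiveSpectrum 𝒜, GrMod.LocMod 𝒜 (M := M) pt)
      (c : ι → ℕ), ∑ i, c i = T → (∀ i, InRange (ℳ := ℳ) n φ (g i) (d i) (c i)) →
      ∃ m ∈ ℳ n, ∀ pt, φ pt = LocalizedModule.mk m 1 := by
    intro T
    induction T using Nat.strong_induction_on with
    | _ T ih =>
      intro n hn φ c hc hz
      by_cases h0 : ∃ i, c i = 0
      · obtain ⟨i, hi⟩ := h0
        obtain ⟨m, hm, hφ⟩ := hz i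
        refine ⟨m, mem_congr (by rw [hi]; simp) hm, fun pt => ?_⟩
        rw [← hφ pt, hi, pow_zero, one_smul]
      push Not at h0
      have hx : ∀ l, ∃ v ∈ ℳ (d l + n), ∀ pt, g l • φ pt = LocalizedModule.mk v 1 := by
        intro l
        obtain ⟨v, hv, hv'⟩ := ih (∑ i, Function.update c l (c l - 1) i) (by
          rw [← hc]
          refine Finset.sum_lt_sum (fun i _ => ?_) ⟨l, Finset.mem_univ l, ?_⟩
          · by_cases hil : i = l
            · subst hil; simp
            · simp [Function.update_of_ne hil]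
          · have := h0 l
            simp only [Function.update_self]
            omega) (d l + n) (by omega) (fun pt => g l • φ pt) _ rfl fun i => by
          by_cases hil : i = l
          · subst hil
            obtain ⟨w, hw, hw'⟩ := hz i
            refine ⟨w, mem_congr ?_ hw, fun pt => ?_⟩
            · obtain ⟨q, hq⟩ : ∃ q, c i = q + 1 := ⟨c i - 1, by have := h0 i; omega⟩
              rw [Function.update_self, hq, Nat.add_sub_cancel]
              ring
            · rw [Function.update_self, smul_smul, ← pow_succ, Nat.sub_add_cancel (Nat.one_le_iff_ne_zero.2 (h0 i))]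
              exact hw' pt
          · obtain ⟨w, hw, hw'⟩ := hz i
            refine ⟨g l • w, mem_congr ?_ (SetLike.GradedSMul.smul_mem (hg l) hw), fun pt => ?_⟩
            · rw [Function.update_of_ne hil, vadd_eq_add]
              ring
            · rw [Function.update_of_ne hil, smul_comm, hw' pt]
              exact LocalizedModule.smul'_mk _ _ _
        exact ⟨v, hv, hv'⟩
      choose v hv hv' using hx
      have hrel : ∀ i l, g l • v i = g i • v l := fun i l => by
        refine sub_eq_zero.1 (inj' (n := d l + (d i + n)) (by omega)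
          (sub_mem (SetLike.GradedSMul.smul_mem (hg l) (hv i))
            (mem_congr (show d i + (d l + n) = d l + (d i + n) by omega) (SetLike.GradedSMul.smul_mem (hg i) (hv l))))
          fun pt => ?_)
        have e1 : (LocalizedModule.mk (g l • v i) 1 : GrMod.LocMod 𝒜 (M := M) pt) =
            LocalizedModule.mk (g i • v l) 1 := by
          rw [← LocalizedModule.smul'_mk, ← LocalizedModule.smul'_mk, ← hv', ← hv', smul_comm]
        show LocalizedModule.mkLinearMap _ M (g l • v i - g i • v l) = 0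
        rw [map_sub, sub_eq_zero]
        exact e1
      obtain ⟨m, hm, hgm⟩ := (hB n hn).1 v (fun i => mem_congr (add_comm _ _) (hv i)) hrel
      refine ⟨m, hm, fun pt => ?_⟩
      obtain ⟨l, hl⟩ := hcov pt
      have hu : ∀ a b : GrMod.LocMod 𝒜 (M := M) pt, g l • a = g l • b → a = b := fun a b hab =>
        (IsUnit.smul_left_cancel (IsLocalization.map_units (Localization pt.asHomogeneousIdeal.toIdeal.primeCompl)
          (⟨g l, hl⟩ : pt.asHomogeneousIdeal.toIdeal.primeCompl))).1 (by
            rw [algebraMap_smul, algebraMap_smul]; exact hab)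
      refine hu _ _ ?_
      show g l • φ pt = g l • LocalizedModule.mk m 1
      rw [hv' l pt, hgm l, LocalizedModule.smul'_mk]
  refine fun n hn => ⟨(injective_iff_map_eq_zero _).2 fun m hm => ?_, fun x => ?_⟩
  · refine Subtype.ext (inj' hn m.2 fun pt => ?_)
    exact congrArg (fun s : Γ(GrMod.tilde 𝒜 ℳ (n : ℤ), ⊤) => valAt s ⟨pt, trivial⟩) hm
  · let φ : ∀ pt : ProjectiveSpectrum 𝒜, GrMod.LocMod 𝒜 (M := M) pt := fun pt => valAt x ⟨pt, trivial⟩
    have hloc : ∀ l, ∃ (p : ℕ) (m : M), m ∈ ℳ (n + p * d l) ∧ ∀ (pt) (h : g l ∉ pt.asHomogeneousIdeal),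
        φ pt = (LocalizedModule.mk m ⟨g l ^ p, fun h' => h (pt.isPrime.mem_of_pow_mem p h')⟩ :
          GrMod.LocMod 𝒜 (M := M) pt) := by
      intro l
      obtain ⟨p, i, m, hi, hm⟩ := exists_frac_eq (ℳ := ℳ) (n := (n : ℤ)) (hd l) (hg l)
        ((GrMod.tilde 𝒜 ℳ (n : ℤ)).presheaf.map (homOfLE le_top).op x)
      refine ⟨p, m.1, mem_congr ?_ m.2, fun pt h => hm ⟨pt, h⟩⟩
      have : (i : ℤ) = ((n + p * d l : ℕ) : ℤ) := by push_cast; linarith
      exact_mod_cast this
    choose p m hmem hm using hloc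
    have hc : ∀ i, ∃ c, InRange (ℳ := ℳ) n φ (g i) (d i) c := by
      intro i
      have hpair : ∀ l, ∃ N : ℕ, (g i * g l) ^ N • (g i ^ p i • m l - g l ^ p l • m i) = 0 := by
        intro l
        have hsub : g i ^ p i • m l - g l ^ p l • m i ∈ ℳ (p i * d i + (n + p l * d l)) :=
          sub_mem (SetLike.GradedSMul.smul_mem (hpowmem i _) (hmem l))
            (mem_congr (show p l * d l + (n + p i * d i) = p i * d i + (n + p l * d l) by ring)
              (SetLike.GradedSMul.smul_mem (hpowmem l _) (hmem i)))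
        refine exists_pow_smul_eq_zero (d := d i + d l) (by have := hd i; omega)
          (SetLike.mul_mem_graded (hg i) (hg l)) (⟨_, hsub⟩ : ℳ _) fun y hy => ?_
        have hyi : g i ∉ y.asHomogeneousIdeal := fun h => hy (Ideal.mul_mem_right _ _ h)
        have hyl : g l ∉ y.asHomogeneousIdeal := fun h => hy (Ideal.mul_mem_left _ _ h)
        obtain ⟨⟨t, ht⟩, htm⟩ := LocalizedModule.mk_eq.1 ((hm l y hyl).symm.trans (hm i y hyi))
        exact ⟨t, ht, by rw [smul_sub, sub_eq_zero]; exact htm⟩
      choose N hN using hpair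
      let K := Finset.univ.sup N
      refine ⟨K + p i, g i ^ K • m i, mem_congr ?_ (SetLike.GradedSMul.smul_mem (hpowmem i K) (hmem i)), fun pt => ?_⟩
      · show K * d i + (n + p i * d i) = _
        ring
      obtain ⟨l, hl⟩ := hcov pt
      have h2 : (g i * g l) ^ K • (g i ^ p i • m l - g l ^ p l • m i) = 0 := by
        rw [← Nat.sub_add_cancel (show N l ≤ K from Finset.le_sup (Finset.mem_univ l)), pow_add, mul_smul, hN, smul_zero]
      rw [smul_sub, sub_eq_zero, smul_smul, smul_smul] at h2
      rw [hm l pt hl, LocalizedModule.smul'_mk, LocalizedModule.mk_eq]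
      refine ⟨⟨g l ^ K, fun h => hl (pt.isPrime.mem_of_pow_mem K h)⟩, ?_⟩
      simp only [Submonoid.smul_def, one_smul, smul_smul]
      convert h2 using 2 <;> ring
    choose c hc using hc
    obtain ⟨m₀, hm₀, hφ⟩ := surj _ n hn φ c rfl hc
    exact ⟨⟨m₀, hm₀⟩, sect_ext fun pt => (hφ pt.1).symm⟩

/-- `M_n → Γ(Proj, M(n)~)` is bijective in all large degrees. -/
theorem eventually_bijective [IsNoetherianRing A]
    (hTF : ∃ k : ℕ, (Submodule.span A (⋃ i ∈ Set.Ici k, (ℳ i : Set M))).FG) :
    ∃ N₀ : ℕ, ∀ n : ℕ, N₀ ≤ n → Function.Bijective (GrMod.alpha 𝒜 ℳ n) := by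
  classical
  obtain ⟨G, hG, hspan⟩ := exists_homogeneous_gens (𝒜 := 𝒜) (IsNoetherian.noetherian _)
  choose! e hepos hedeg using hG
  obtain ⟨k, hk⟩ := hTF
  have hirr : (HomogeneousIdeal.irrelevant 𝒜).toIdeal ≤ Ideal.span (Set.range fun i : {x // x ∈ G} => i.1) := by
    rw [show (Set.range fun i : {x // x ∈ G} => i.1) = (G : Set A) by ext; simp, hspan]
  obtain ⟨B, hB⟩ := socle_bound (ℳ := ℳ) _ (fun i : {x // x ∈ G} => e i.1) (fun i => hedeg _ i.2) hirr _ hk k
    fun n hn z hz => Submodule.subset_span (Set.mem_biUnion (x := n) hn hz)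
  exact ⟨B, bijective_of_bound _ _ (fun i => hepos _ i.2) (fun i => hedeg _ i.2) hirr B hB⟩

end Groth.Agent.GrModLib
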