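import Groth.Agent.GrModLib.Lift
import Groth.Prelude.Def_RelProj3

/-! The comparison along a localisation in degree zero. -/

set_option autoImplicit false
set_option linter.style.haveILetI false
set_option linter.unusedSectionVars false
set_option backward.isDefEq.respectTransparency false

universe u

open CategoryTheory TopologicalSpace AlgebraicGeometry Opposite
open scoped HomogeneousIdeal

noncomputable section

namespace Groth.Agent.GrModLib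

variable {A σ : Type u} [CommRing A] [SetLike σ A] [AddSubgroupClass σ A] {𝒜 : ℕ → σ} [GradedRing 𝒜]
variable {M τ : Type u} [AddCommGroup M] [Module A M] [SetLike τ M] [AddSubgroupClass τ M]
  {ℳ : ℕ → τ} [DirectSum.Decomposition ℳ] [SetLike.GradedSMul 𝒜 ℳ]
variable {B σ' : Type u} [CommRing B] [SetLike σ' B] [AddSubgroupClass σ' B] {ℬ : ℕ → σ'} [GradedRing ℬ]
variable {N τ' : Type u} [AddCommGroup N] [Module B N] [SetLike τ' N] [AddSubgroupClass τ' N]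
  {𝒩 : ℕ → τ'} [DirectSum.Decomposition 𝒩] [SetLike.GradedSMul ℬ 𝒩]

/-- `v : M → N` is, degreewise, the localisation at `c ∈ A₀`. -/
structure IsDegLoc (ψ : 𝒜 →+*ᵍ ℬ) (ℳ : ℕ → τ) (𝒩 : ℕ → τ') (v : M →ₛₗ[ψ.toRingHom] N) (c : A) : Prop where
  mem : ∀ (i : ℕ) (m : M), m ∈ ℳ i → v m ∈ 𝒩 i
  mem_zero : c ∈ 𝒜 0
  isUnit : IsUnit (ψ c)
  surj : ∀ n : N, ∃ (k : ℕ) (m : M), v m = ψ (c ^ k) • n
  kill : ∀ m : M, v m = 0 → ∃ k : ℕ, c ^ k • m = 0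
  ring_surj : ∀ b : B, ∃ (k : ℕ) (a : A), ψ a = ψ (c ^ k) * b

variable {ψ : 𝒜 →+*ᵍ ℬ} {v : M →ₛₗ[ψ.toRingHom] N} {c : A}

/-- A degree preserving map commutes with taking components. -/
theorem decompose_map (hv : ∀ (i : ℕ) (m : M), m ∈ ℳ i → v m ∈ 𝒩 i) (w : M) (l : ℕ) :
    v (DirectSum.decompose ℳ w l : M) = (DirectSum.decompose 𝒩 (v w) l : N) := by
  classical
  induction w using DirectSum.Decomposition.inductionOn ℳ with
  | zero => simp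
  | @homogeneous i' b =>
    by_cases hl : i' = l
    · subst hl
      rw [DirectSum.decompose_of_mem_same ℳ b.2, DirectSum.decompose_of_mem_same 𝒩 (hv i' b.1 b.2)]
    · rw [DirectSum.decompose_of_mem_ne ℳ b.2 hl, DirectSum.decompose_of_mem_ne 𝒩 (hv i' b.1 b.2) hl, map_zero]
  | add a b ha hb => simp [ha, hb]

theorem IsDegLoc.exists_num (h : IsDegLoc ψ ℳ 𝒩 v c) {i : ℕ} (n : 𝒩 i) :
    ∃ (k : ℕ) (m : ℳ i), v m.1 = ψ (c ^ k) • n.1 := by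
  classical
  obtain ⟨k, m, hm⟩ := h.surj n.1
  have hc : ψ (c ^ k) • n.1 ∈ 𝒩 i := by
    have := SetLike.GradedSMul.smul_mem (ψ.map_mem (SetLike.pow_mem_graded k h.mem_zero)) n.2
    simpa using this
  exact ⟨k, DirectSum.decompose ℳ m i, by rw [decompose_map h.mem, hm, DirectSum.decompose_of_mem_same 𝒩 hc]⟩

theorem IsDegLoc.exists_den (h : IsDegLoc ψ ℳ 𝒩 v c) {j : ℕ} (t : ℬ j) :
    ∃ (k : ℕ) (a : 𝒜 j), ψ a.1 = ψ (c ^ k) * t.1 := by
  classical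
  obtain ⟨k, a, ha⟩ := h.ring_surj t.1
  have hc : ψ (c ^ k) * t.1 ∈ ℬ j := by
    simpa using SetLike.mul_mem_graded (ψ.map_mem (SetLike.pow_mem_graded k h.mem_zero)) t.2
  refine ⟨k, DirectSum.decompose 𝒜 a j, ?_⟩
  rw [GradedRingHom.map_directSumDecompose, ha, DirectSum.decompose_of_mem_same ℬ hc]

variable (hψ : ℬ₊ ≤ (𝒜₊).map ψ)

theorem IsDegLoc.notMem (h : IsDegLoc ψ ℳ 𝒩 v c) (y : ProjectiveSpectrum ℬ) (k : ℕ) :
    ψ (c ^ k) ∉ y.asHomogeneousIdeal := fun hm =>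
  y.isPrime.ne_top (Ideal.eq_top_of_isUnit_mem _ hm (by rw [map_pow]; exact h.isUnit.pow k))

omit [DirectSum.Decomposition ℳ] [DirectSum.Decomposition 𝒩] in
theorem valAt_congr {n : ℤ} {V : (Proj 𝒜).Opens} (s : Γ(GrMod.tilde 𝒜 ℳ n, V)) {x x' : ProjectiveSpectrum 𝒜}
    (hx : x ∈ V) (hx' : x' ∈ V) (e : x = x') {m : M} {t : A} (ht : t ∉ x.asHomogeneousIdeal)
    (h : valAt s ⟨x, hx⟩ = LocalizedModule.mk m ⟨t, ht⟩) :
    valAt s ⟨x', hx'⟩ = LocalizedModule.mk m ⟨t, e ▸ ht⟩ := by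
  subst e; exact h

omit [DirectSum.Decomposition ℳ] [DirectSum.Decomposition 𝒩] in
theorem valAt_congr_zero {n : ℤ} {V : (Proj 𝒜).Opens} (s : Γ(GrMod.tilde 𝒜 ℳ n, V)) {x x' : ProjectiveSpectrum 𝒜}
    (hx : x ∈ V) (hx' : x' ∈ V) (e : x = x') (h : valAt s ⟨x, hx⟩ = 0) : valAt s ⟨x', hx'⟩ = 0 := by
  subst e; exact h

theorem IsDegLoc.locModMap_eq_zero (h : IsDegLoc ψ ℳ 𝒩 v c) {y : ProjectiveSpectrum ℬ}
    {q : GrMod.LocMod 𝒜 (M := M) (ProjectiveSpectrum.comap ψ hψ y)}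
    (hq : GrMod.locModMap ψ hψ v y q = 0) : q = 0 := by
  induction q using LocalizedModule.induction_on with
  | h m s =>
    rw [GrMod.locModMap_mk, mk_eq_zero] at hq
    obtain ⟨b, hby, hb⟩ := hq
    obtain ⟨k, a, ha⟩ := h.ring_surj b
    obtain ⟨l, hl⟩ := h.kill (a • m) (by
      rw [LinearMap.map_smulₛₗ, show ψ.toRingHom a = ψ a from rfl, ha, mul_smul, hb, smul_zero])
    refine mk_eq_zero.2 ⟨c ^ l * a, fun hm => ?_, by rw [mul_smul, hl]⟩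
    have hm' : ψ (c ^ l * a) ∈ y.asHomogeneousIdeal := hm
    rw [map_mul, ha] at hm'
    rcases y.isPrime.mem_or_mem hm' with h1 | h1
    · exact h.notMem y l h1
    · exact (y.isPrime.mem_or_mem h1).elim (h.notMem y k) hby

/-- Local lifts along the comparison. -/
theorem IsDegLoc.exists_local_lift (h : IsDegLoc ψ ℳ 𝒩 v c) {n : ℤ} {V : (Proj ℬ).Opens}
    (σ₀ : Γ(GrMod.tilde ℬ 𝒩 n, V)) (y : V) :
    ∃ (Z : (Proj ℬ).Opens), Z ≤ V ∧ y.1 ∈ Z ∧ ∃ (T : (Proj 𝒜).Opens) (τ₀ : Γ(GrMod.tilde 𝒜 ℳ n, T))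
      (hT : Z ≤ Proj.map ψ hψ ⁻¹ᵁ T), ∀ (z : Z) (hz : z.1 ∈ V),
        GrMod.locModMap ψ hψ v z.1 (valAt τ₀ ⟨ProjectiveSpectrum.comap ψ hψ z.1, hT z.2⟩) = valAt σ₀ ⟨z.1, hz⟩ := by
  obtain ⟨W₀, hyW, iW, i, j, m, t, nin, he, hw⟩ := ((σ₀ : GrMod.sect ℬ 𝒩 n (op V))).2 y
  rcases he with he | he
  · obtain ⟨k, m₀, hm₀⟩ := h.exists_num m
    obtain ⟨l, t₀, ht₀⟩ := h.exists_den t
    have hm : c ^ l • m₀.1 ∈ ℳ i := by
      have := SetLike.GradedSMul.smul_mem (SetLike.pow_mem_graded l h.mem_zero) m₀.2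
      simpa using this
    have ht : c ^ k * t₀.1 ∈ 𝒜 j := by
      simpa using SetLike.mul_mem_graded (SetLike.pow_mem_graded k h.mem_zero) t₀.2
    have hnot : ∀ z : W₀, ψ (c ^ k * t₀.1) ∉ z.1.asHomogeneousIdeal := fun z hh => by
      rw [map_mul, ht₀] at hh
      rcases z.1.isPrime.mem_or_mem hh with h1 | h1
      · exact h.notMem z.1 k h1
      · exact (z.1.isPrime.mem_or_mem h1).elim (h.notMem z.1 l) (nin z)
    refine ⟨W₀, iW.le, hyW, Proj.basicOpen 𝒜 (c ^ k * t₀.1),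
      frac 𝒜 ℳ (⟨_, hm⟩ : ℳ i) (⟨_, ht⟩ : 𝒜 j) n he le_rfl, fun z hz => hnot ⟨z, hz⟩, fun z hz => ?_⟩
    rw [valAt_frac, GrMod.locModMap_mk]
    refine (LocalizedModule.mk_eq.2 ⟨1, ?_⟩).trans (hw z).symm
    simp only [one_smul]
    show t.1 • v (c ^ l • m₀.1) = ψ (c ^ k * t₀.1) • m.1
    rw [LinearMap.map_smulₛₗ, hm₀, map_mul, ht₀, show ψ.toRingHom (c ^ l) = ψ (c ^ l) from rfl, smul_smul,
      smul_smul]
    congr 1
    ring
  · refine ⟨W₀, iW.le, hyW, ⊤, 0, le_top, fun z hz => ?_⟩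
    rw [valAt_zero, map_zero]
    exact ((hw z).trans (by rw [he, LocalizedModule.zero_mk])).symm

end Groth.Agent.GrModLib
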