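import Groth.Agent.GrModLib.QCoh

/-! Finite generation over the charts of degree one. -/

set_option autoImplicit false
set_option linter.style.haveILetI false
set_option linter.unusedSectionVars false
set_option backward.isDefEq.respectTransparency false

universe u

open CategoryTheory TopologicalSpace AlgebraicGeometry Opposite
open HomogeneousLocalization

noncomputable section

namespace Groth.Agent.GrModLib

variable {A σ : Type u} [CommRing A] [SetLike σ A] [AddSubgroupClass σ A] {𝒜 : ℕ → σ} [GradedRing 𝒜]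
variable {M τ : Type u} [AddCommGroup M] [Module A M] [SetLike τ M] [AddSubgroupClass τ M]
  {ℳ : ℕ → τ} [DirectSum.Decomposition ℳ] [SetLike.GradedSMul 𝒜 ℳ]

theorem finite_sections_one {f : A} (hf : f ∈ 𝒜 1) {n : ℕ}
    (hTF : (Submodule.span A (⋃ k ∈ Set.Ici n, (ℳ k : Set M))).FG) :
    Module.Finite Γ(Proj 𝒜, Proj.basicOpen 𝒜 f) Γ(GrMod.tilde 𝒜 ℳ 0, Proj.basicOpen 𝒜 f) := by
  classical
  obtain ⟨G, hGsub, hG⟩ := (Submodule.fg_span_iff_fg_span_finset_subset _).1 hTF
  have hdeg : ∀ g : G, ∃ k, g.1 ∈ ℳ k := fun g => by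
    have := hGsub g.2
    simp only [Set.mem_iUnion, Set.mem_Ici] at this
    obtain ⟨k, _, hk⟩ := this
    exact ⟨k, hk⟩
  choose dg hdg using hdeg
  have hfp : ∀ k : ℕ, f ^ k ∈ 𝒜 k := fun k => by simpa using SetLike.pow_mem_graded k hf
  have hle : ∀ k : ℕ, Proj.basicOpen 𝒜 f ≤ Proj.basicOpen 𝒜 (f ^ k) := fun k x hx hm =>
    hx (x.isPrime.mem_of_pow_mem k hm)
  let gen : G → Γ(GrMod.tilde 𝒜 ℳ 0, Proj.basicOpen 𝒜 f) := fun g =>
    frac 𝒜 ℳ (⟨g.1, hdg g⟩ : ℳ (dg g)) (⟨f ^ dg g, hfp _⟩ : 𝒜 (dg g)) 0 (by simp) (hle _)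
  refine Module.Finite.of_surjective (Fintype.linearCombination Γ(Proj 𝒜, Proj.basicOpen 𝒜 f) gen) fun s => ?_
  show s ∈ LinearMap.range _
  rw [Fintype.range_linearCombination]
  obtain ⟨p, i, m, hi, hm⟩ := exists_frac_eq (ℳ := ℳ) (n := (0 : ℤ)) one_pos hf s
  obtain rfl : i = p := by omega
  set k := n + i
  have hmk : f ^ n • m.1 ∈ ℳ k := SetLike.GradedSMul.smul_mem (hfp n) m.2
  obtain ⟨c, hc⟩ := (Submodule.mem_span_range_iff_exists_fun A).1
    (show f ^ n • m.1 ∈ Submodule.span A (Set.range fun g : G => (g : M)) by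
      rw [show Set.range (fun g : G => (g : M)) = (G : Set M) from Subtype.range_coe, ← hG]
      exact Submodule.subset_span (Set.mem_iUnion₂.2 ⟨k, by simp only [Set.mem_Ici, k]; omega, hmk⟩))
  let c' : G → A := fun g => if dg g ≤ k then (DirectSum.decompose 𝒜 (c g) (k - dg g) : A) else 0
  have hc' : ∀ g, c' g ∈ 𝒜 (k - dg g) := fun g => by
    simp only [c']; split_ifs
    · exact (DirectSum.decompose 𝒜 (c g) (k - dg g)).2
    · exact zero_mem _
  let π : M →+ M := AddMonoidHom.mk' (fun w => ((DirectSum.decompose ℳ w k : ℳ k) : M)) fun y w => by simp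
  have hsum : f ^ n • m.1 = ∑ g, c' g • (g : M) := by
    have h1 := congrArg π hc
    rw [map_sum, show π (f ^ n • m.1) = f ^ n • m.1 from DirectSum.decompose_of_mem_same ℳ hmk] at h1
    rw [← h1]
    refine Finset.sum_congr rfl fun g _ => ?_
    let π' : A →+ M := AddMonoidHom.mk' (fun a => π (a • (g : M))) fun y w => by simp only [add_smul, map_add]
    show π' (c g) = c' g • (g : M)
    conv_lhs => rw [← DirectSum.sum_support_decompose 𝒜 (c g)]
    rw [map_sum]
    have hterm : ∀ e, π' (DirectSum.decompose 𝒜 (c g) e : A) =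
        if e + dg g = k then (DirectSum.decompose 𝒜 (c g) e : A) • (g : M) else 0 := fun e => by
      have hmem : (DirectSum.decompose 𝒜 (c g) e : A) • (g : M) ∈ ℳ (e + dg g) :=
        SetLike.GradedSMul.smul_mem (DirectSum.decompose 𝒜 (c g) e).2 (hdg g)
      show (DirectSum.decompose ℳ ((DirectSum.decompose 𝒜 (c g) e : A) • (g : M)) k : M) = _
      split_ifs with he
      · exact he ▸ DirectSum.decompose_of_mem_same ℳ hmem
      · exact DirectSum.decompose_of_mem_ne ℳ hmem he
    simp only [hterm]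
    by_cases hg : dg g ≤ k
    · rw [Finset.sum_eq_single (k - dg g) (fun e _ he => if_neg (by omega))
        (fun he => by rw [DFinsupp.notMem_support_iff.1 he]; simp), if_pos (by omega)]
      simp only [c', if_pos hg]
    · rw [Finset.sum_eq_zero fun e _ => if_neg (by omega)]
      simp [c', hg]
  have hz : ∀ g, dg g ≤ k ∨ c' g = 0 := fun g => by
    by_cases hg : dg g ≤ k
    · exact Or.inl hg
    · exact Or.inr (if_neg hg)
  let a : G → Γ(Proj 𝒜, Proj.basicOpen 𝒜 f) := fun g =>
    Proj.awayToSection 𝒜 f (Away.mk 𝒜 hf (k - dg g) (c' g) (by simpa using hc' g))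
  have hs : s = ∑ g, a g • gen g := sect_ext fun x => by
    let ev : Γ(GrMod.tilde 𝒜 ℳ 0, Proj.basicOpen 𝒜 f) →+ GrMod.LocMod 𝒜 (M := M) x.1 :=
      AddMonoidHom.mk' (fun z => valAt z x) fun z z' => valAt_add z z' x
    show valAt s x = ev _
    rw [map_sum]
    have hk : f ^ k ∈ x.1.asHomogeneousIdeal.toIdeal.primeCompl := hle k x.2
    have hterm : ∀ g, ev (a g • gen g) =
        LocalizedModule.mkLinearMap x.1.asHomogeneousIdeal.toIdeal.primeCompl M (0 : M) +
          LocalizedModule.mk (c' g • (g : M)) (⟨f ^ k, hk⟩ : x.1.asHomogeneousIdeal.toIdeal.primeCompl) := fun g => by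
      show valAt (a g • gen g) x = _
      rw [map_zero, zero_add, valAt_smul, val_awayToSection, valAt_frac, LocalizedModule.mk_smul_mk]
      rcases hz g with hg | hg
      · congr 1
        exact Subtype.ext (show f ^ (k - dg g) * f ^ dg g = f ^ k by rw [← pow_add, Nat.sub_add_cancel hg])
      · rw [hg, zero_smul, LocalizedModule.zero_mk, LocalizedModule.zero_mk]
    simp only [map_zero, zero_add] at hterm
    simp only [hterm]
    let mkk : M →+ GrMod.LocMod 𝒜 (M := M) x.1 :=
      AddMonoidHom.mk' (fun z => LocalizedModule.mk z (⟨f ^ k, hk⟩ : x.1.asHomogeneousIdeal.toIdeal.primeCompl))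
        fun z z' => ((LocalizedModule.mk_add_mk).trans (LocalizedModule.mk_eq.2 ⟨1, by
          simp only [one_smul, Submonoid.smul_def, Submonoid.coe_mul, smul_add, mul_smul]⟩)).symm
    show valAt s x = ∑ g, mkk (c' g • (g : M))
    rw [← map_sum, ← hsum, show valAt s x = _ from hm x]
    refine LocalizedModule.mk_eq.2 ⟨1, ?_⟩
    simp only [one_smul]
    show f ^ k • m.1 = f ^ i • f ^ n • m.1
    rw [smul_smul, ← pow_add, add_comm i n]
  rw [hs]
  exact Submodule.sum_mem _ fun g _ => Submodule.smul_mem _ _ (Submodule.subset_span ⟨g, rfl⟩)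

end Groth.Agent.GrModLib
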