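import Groth.Agent.GrModLib.QCoh
import Groth.Agent.GrModLib.Twist
import Groth.Agent.GrModLib.Eventually
import Groth.Agent.QCohLib.FiniteType

/-! Finiteness of `M(n)~` on a basic open, the generators in any positive degrees. -/

set_option autoImplicit false
set_option linter.style.haveILetI false
set_option linter.unusedSectionVars false
set_option backward.isDefEq.respectTransparency false

universe u

open CategoryTheory TopologicalSpace AlgebraicGeometry Opposite DirectSum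
open HomogeneousLocalization

noncomputable section

namespace Groth.Agent.GrModLib

variable {A σ : Type u} [CommRing A] [SetLike σ A] [AddSubgroupClass σ A] {𝒜 : ℕ → σ} [GradedRing 𝒜]
variable {M τ : Type u} [AddCommGroup M] [Module A M] [SetLike τ M] [AddSubgroupClass τ M]
  {ℳ : ℕ → τ} [DirectSum.Decomposition ℳ] [SetLike.GradedSMul 𝒜 ℳ]

/-- The component of `a • g` for homogeneous `g`. -/
theorem cp_smul_mem (a : A) {i k : ℕ} {g : M} (hg : g ∈ ℳ i) :
    cp ℳ k (a • g) = if i ≤ k then (DirectSum.decompose 𝒜 a (k - i) : A) • g else 0 := by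
  induction a using DirectSum.Decomposition.inductionOn 𝒜 with
  | zero => simp
  | add a b ha hb =>
    rw [add_smul, map_add, ha, hb]
    split_ifs <;> simp [add_smul]
  | @homogeneous e a =>
    have hm : (a : A) • g ∈ ℳ (e + i) := SetLike.GradedSMul.smul_mem a.2 hg
    by_cases h : e + i = k
    · subst h
      rw [cp_same hm, if_pos (by omega), show e + i - i = e by omega, DirectSum.decompose_of_mem_same 𝒜 a.2]
    · show ((DirectSum.decompose ℳ ((a : A) • g) k : ℳ k) : M) = _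
      rw [DirectSum.decompose_of_mem_ne ℳ hm h]
      split_ifs with hik
      · rw [DirectSum.decompose_of_mem_ne 𝒜 a.2 (show e ≠ k - i by omega), zero_smul]
      · rfl

theorem finite_sections_basicOpen [IsNoetherianRing A] {d : ℕ} (hd : 0 < d) {f : A} (hf : f ∈ 𝒜 d) (n : ℤ) {k₀ : ℕ}
    (hTF : (Submodule.span A (⋃ k ∈ Set.Ici k₀, (ℳ k : Set M))).FG) :
    Module.Finite Γ(Proj 𝒜, Proj.basicOpen 𝒜 f) Γ(GrMod.tilde 𝒜 ℳ n, Proj.basicOpen 𝒜 f) := by
  classical
  let S : Set M := {z | ∃ j q : ℕ, k₀ ≤ j ∧ (j : ℤ) = q * d + n ∧ z ∈ ℳ j}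
  haveI : Module.Finite A ↥(Submodule.span A (⋃ k ∈ Set.Ici k₀, (ℳ k : Set M))) := Module.Finite.iff_fg.2 hTF
  have hS : (Submodule.span A S).FG := by
    have hle : Submodule.span A S ≤ Submodule.span A (⋃ k ∈ Set.Ici k₀, (ℳ k : Set M)) :=
      Submodule.span_le.2 fun z ⟨j, q, hj, _, hz⟩ => Submodule.subset_span (Set.mem_biUnion (x := j) hj hz)
    have h1 := (IsNoetherian.noetherian ((Submodule.span A S).comap
      (Submodule.span A (⋃ k ∈ Set.Ici k₀, (ℳ k : Set M))).subtype)).map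
      (Submodule.span A (⋃ k ∈ Set.Ici k₀, (ℳ k : Set M))).subtype
    rwa [Submodule.map_comap_subtype, inf_eq_right.2 hle] at h1
  obtain ⟨G, hGsub, hG⟩ := (Submodule.fg_span_iff_fg_span_finset_subset _).1 hS
  have hdeg : ∀ g : G, ∃ j q : ℕ, k₀ ≤ j ∧ (j : ℤ) = q * d + n ∧ g.1 ∈ ℳ j := fun g => hGsub g.2
  choose dg qg hk₀ hdq hdg using hdeg
  have hfp : ∀ k : ℕ, f ^ k ∈ 𝒜 (k * d) := fun k => by simpa using SetLike.pow_mem_graded k hf
  have hle : ∀ k : ℕ, Proj.basicOpen 𝒜 f ≤ Proj.basicOpen 𝒜 (f ^ k) := fun k x hx hm =>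
    hx (x.isPrime.mem_of_pow_mem k hm)
  let gen : G → Γ(GrMod.tilde 𝒜 ℳ n, Proj.basicOpen 𝒜 f) := fun g =>
    frac 𝒜 ℳ (⟨g.1, hdg g⟩ : ℳ (dg g)) (⟨f ^ qg g, hfp _⟩ : 𝒜 (qg g * d)) n (by push_cast; exact hdq g) (hle _)
  refine Module.Finite.of_surjective (Fintype.linearCombination Γ(Proj 𝒜, Proj.basicOpen 𝒜 f) gen) fun s => ?_
  show s ∈ LinearMap.range _
  rw [Fintype.range_linearCombination]
  obtain ⟨p, i, m, hi, hm⟩ := exists_frac_eq (ℳ := ℳ) (n := n) hd hf s
  set k := k₀ * d + i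
  have hkp : (k : ℤ) = (k₀ + p : ℕ) * d + n := by
    simp only [k]
    push_cast
    linarith
  have hmk : f ^ k₀ • m.1 ∈ ℳ k := SetLike.GradedSMul.smul_mem (hfp k₀) m.2
  obtain ⟨c, hc⟩ := (Submodule.mem_span_range_iff_exists_fun A).1
    (show f ^ k₀ • m.1 ∈ Submodule.span A (Set.range fun g : G => (g : M)) by
      rw [show Set.range (fun g : G => (g : M)) = (G : Set M) from Subtype.range_coe, ← hG]
      exact Submodule.subset_span ⟨k, k₀ + p, Nat.le_add_right_of_le (Nat.le_mul_of_pos_right k₀ hd), hkp, hmk⟩)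
  have hdiv : ∀ g, dg g ≤ k → qg g ≤ k₀ + p ∧ k - dg g = (k₀ + p - qg g) • d := fun g hg => by
    have h1 := hdq g
    have h2 : qg g * d ≤ (k₀ + p) * d := by zify; push_cast at hkp; omega
    have h3 : qg g ≤ k₀ + p := Nat.le_of_mul_le_mul_right h2 hd
    refine ⟨h3, ?_⟩
    rw [smul_eq_mul, Nat.sub_mul]
    zify [hg, h2]
    push_cast at hkp
    linarith
  let c' : G → A := fun g => if dg g ≤ k then (DirectSum.decompose 𝒜 (c g) (k - dg g) : A) else 0
  have hc' : ∀ g, c' g ∈ 𝒜 ((k₀ + p - qg g) • d) := fun g => by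
    simp only [c']; split_ifs with hg
    · rw [← (hdiv g hg).2]
      exact (DirectSum.decompose 𝒜 (c g) (k - dg g)).2
    · exact zero_mem _
  have hsum : f ^ k₀ • m.1 = ∑ g, c' g • (g : M) := by
    have h1 := congrArg (cp ℳ k) hc
    rw [map_sum, cp_same hmk] at h1
    rw [← h1]
    refine Finset.sum_congr rfl fun g _ => ?_
    rw [cp_smul_mem (𝒜 := 𝒜) (c g) (hdg g)]
    simp only [c']
    split_ifs <;> simp
  have hz : ∀ g, qg g ≤ k₀ + p ∨ c' g = 0 := fun g => by
    by_cases hg : dg g ≤ k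
    · exact Or.inl (hdiv g hg).1
    · exact Or.inr (if_neg hg)
  let a : G → Γ(Proj 𝒜, Proj.basicOpen 𝒜 f) := fun g =>
    Proj.awayToSection 𝒜 f (Away.mk 𝒜 hf (k₀ + p - qg g) (c' g) (hc' g))
  have hs : s = ∑ g, a g • gen g := sect_ext fun x => by
    let ev : Γ(GrMod.tilde 𝒜 ℳ n, Proj.basicOpen 𝒜 f) →+ GrMod.LocMod 𝒜 (M := M) x.1 :=
      AddMonoidHom.mk' (fun z => valAt z x) fun z z' => valAt_add z z' x
    show valAt s x = ev _
    rw [map_sum]
    have hk : f ^ (k₀ + p) ∈ x.1.asHomogeneousIdeal.toIdeal.primeCompl := hle _ x.2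
    have hterm : ∀ g, ev (a g • gen g) =
        LocalizedModule.mk (c' g • (g : M)) (⟨f ^ (k₀ + p), hk⟩ : x.1.asHomogeneousIdeal.toIdeal.primeCompl) := fun g => by
      show valAt (a g • gen g) x = _
      rw [valAt_smul, val_awayToSection, valAt_frac, LocalizedModule.mk_smul_mk]
      rcases hz g with hg | hg
      · congr 1
        exact Subtype.ext (show f ^ (k₀ + p - qg g) * f ^ qg g = f ^ (k₀ + p) by rw [← pow_add, Nat.sub_add_cancel hg])
      · rw [hg, zero_smul, LocalizedModule.zero_mk, LocalizedModule.zero_mk]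
    simp only [hterm]
    let mkk : M →+ GrMod.LocMod 𝒜 (M := M) x.1 :=
      AddMonoidHom.mk' (fun z => LocalizedModule.mk z (⟨f ^ (k₀ + p), hk⟩ : x.1.asHomogeneousIdeal.toIdeal.primeCompl))
        fun z z' => ((LocalizedModule.mk_add_mk).trans (LocalizedModule.mk_eq.2 ⟨1, by
          simp only [one_smul, Submonoid.smul_def, Submonoid.coe_mul, smul_add, mul_smul]⟩)).symm
    show valAt s x = ∑ g, mkk (c' g • (g : M))
    rw [← map_sum, ← hsum, show valAt s x = _ from hm x]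
    refine LocalizedModule.mk_eq.2 ⟨1, ?_⟩
    simp only [one_smul]
    show f ^ (k₀ + p) • m.1 = f ^ p • f ^ k₀ • m.1
    rw [smul_smul, ← pow_add, add_comm]
  rw [hs]
  exact Submodule.sum_mem _ fun g _ => Submodule.smul_mem _ _ (Submodule.subset_span ⟨g, rfl⟩)

/-- The twisting sheaves of a Noetherian graded ring have finite sections on the basic opens. -/
theorem finite_twist_sections [IsNoetherianRing A] {d : ℕ} (hd : 0 < d) {f : A} (hf : f ∈ 𝒜 d) (n : ℤ) :
    Module.Finite Γ(Proj 𝒜, Proj.basicOpen 𝒜 f) Γ(GrTwist.twist 𝒜 n, Proj.basicOpen 𝒜 f) := by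
  haveI := finite_sections_basicOpen (ℳ := 𝒜) hd hf n (k₀ := 0) (IsNoetherian.noetherian _)
  let V := Proj.basicOpen 𝒜 f
  refine Module.Finite.of_surjective
    ({ toFun := (inv (twistToTilde 𝒜 n)).app V
       map_add' := map_add _
       map_smul' := fun c z => Scheme.Modules.Hom.app_smul _ c z } :
      Γ(GrMod.tilde 𝒜 𝒜 n, V) →ₗ[Γ(Proj 𝒜, V)] Γ(GrTwist.twist 𝒜 n, V)) ?_
  exact (ConcreteCategory.bijective_of_isIso ((inv (twistToTilde 𝒜 n)).app V)).2

end Groth.Agent.GrModLib
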