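import Groth.Agent.GrModLib.Twist
import Groth.Agent.ProjTwistLib.Lift

/-! Multiplication of twisting sheaves and their action on the twists of a module sheaf, for gradings by additive
subgroups. -/

set_option autoImplicit false
set_option linter.style.haveILetI false
set_option backward.isDefEq.respectTransparency false

universe u

open CategoryTheory CategoryTheory.Limits AlgebraicGeometry TopologicalSpace Opposite
open Groth.Agent.ParaFLib Groth.Agent.PullbackMod Groth.Agent.DCohLib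

noncomputable section

namespace Groth.Agent.GrModLib

variable {A σ : Type u} [CommRing A] [SetLike σ A] [AddSubgroupClass σ A] {𝒜 : ℕ → σ} [GradedRing 𝒜]
variable {M τ : Type u} [AddCommGroup M] [Module A M] [SetLike τ M] [AddSubgroupClass τ M] {ℳ : ℕ → τ}
  [SetLike.GradedSMul 𝒜 ℳ]

/-! ### Fractions as sections of twisting sheaves -/

variable (𝒜) in
/-- `a / s` as a section of `O(n)`. -/
def fracT {i j : ℕ} (a : 𝒜 i) (s : 𝒜 j) (n : ℤ) (h : (i : ℤ) = j + n) {V : (Proj 𝒜).Opens}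
    (hV : V ≤ Proj.basicOpen 𝒜 s.1) : Γ(GrTwist.twist 𝒜 n, V) :=
  (⟨fun x => ⟨Localization.mk a.1 ⟨s.1, hV x.2⟩, Submodule.subset_span ⟨i, j, a, s, hV x.2, h, rfl⟩⟩,
    fun x => ⟨V, x.2, 𝟙 _, i, j, a, s, fun y => hV y.2, Or.inl h, fun _ => rfl⟩⟩ :
      GrTwist.sectN (𝒜 := 𝒜) n (op V))

theorem gen_fracT {i j : ℕ} (a : 𝒜 i) (s : 𝒜 j) (n : ℤ) (h : (i : ℤ) = j + n) {V : (Proj 𝒜).Opens}
    (hV : V ≤ Proj.basicOpen 𝒜 s.1) (hV' : V ≤ Proj.basicOpen 𝒜 a.1) : Gen V (fracT 𝒜 a s n h hV) := by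
  intro O hO
  refine (Function.Bijective.of_comp_iff'
    (ConcreteCategory.bijective_of_isIso ((twistToTilde 𝒜 n).app O)) _).1 ?_
  have e : ((twistToTilde 𝒜 n).app O ∘ fun r : Γ(Proj 𝒜, O) =>
      r • (GrTwist.twist 𝒜 n).presheaf.map (homOfLE hO).op (fracT 𝒜 a s n h hV)) =
      fun r : Γ(Proj 𝒜, O) => r • (GrMod.tilde 𝒜 𝒜 n).presheaf.map (homOfLE hO).op (frac 𝒜 𝒜 a s n h hV) :=
    funext fun r => Scheme.Modules.Hom.app_smul _ r _
  rw [e]
  exact gen_frac a s n h hV hV' O hO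

/-! ### The action -/

lemma smul_mem_tildeAt {x : ProjectiveSpectrum 𝒜} {m n k : ℤ} (h : m + n = k) {p : GrTwist.Loc 𝒜 x}
    {q : GrMod.LocMod 𝒜 (M := M) x} (hp : p ∈ GrTwist.twistAt 𝒜 m x) (hq : q ∈ GrMod.tildeAt 𝒜 ℳ n x) :
    p • q ∈ GrMod.tildeAt 𝒜 ℳ k x := by
  induction hp using Submodule.span_induction with
  | mem p hp =>
    obtain ⟨i, j, a, s, hs, he, rfl⟩ := hp
    obtain ⟨i', j', b, t, ht, hb, rfl⟩ := exists_rep hq
    rw [LocalizedModule.mk_smul_mk]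
    rcases hb with hb | hb
    · exact Submodule.subset_span ⟨i + i', j + j', ⟨a.1 • b.1, SetLike.GradedSMul.smul_mem a.2 b.2⟩,
        ⟨s.1 * t.1, SetLike.mul_mem_graded s.2 t.2⟩, fun hm => (x.isPrime.mem_or_mem hm).elim hs ht,
        by push_cast; omega, rfl⟩
    · rw [hb, smul_zero, LocalizedModule.zero_mk]
      exact zero_mem _
  | zero => rw [zero_smul]; exact zero_mem _
  | add p p' _ _ h₁ h₂ => rw [add_smul]; exact add_mem h₁ h₂
  | smul c p _ h₁ =>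
    rw [Algebra.smul_def, mul_smul]
    exact Submodule.smul_mem _ c h₁

/-- A section of a twisting sheaf times a section of a module sheaf. -/
def actS {m n k : ℤ} (h : m + n = k) {V : (Proj 𝒜).Opens} (f : Γ(GrTwist.twist 𝒜 m, V))
    (g : Γ(GrMod.tilde 𝒜 ℳ n, V)) : Γ(GrMod.tilde 𝒜 ℳ k, V) :=
  (⟨fun x => ⟨GrTwist.val f x • valAt g x,
      smul_mem_tildeAt h ((f : GrTwist.sectN (𝒜 := 𝒜) m (op V)).1 x).2 ((g : GrMod.sect 𝒜 ℳ n (op V)).1 x).2⟩,
    fun x => by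
    obtain ⟨V₁, hV₁, i₁, a₁, b₁, p₁, q₁, n₁, c₁, w₁⟩ := (f : GrTwist.sectN (𝒜 := 𝒜) m (op V)).2 x
    obtain ⟨V₂, hV₂, i₂, a₂, b₂, p₂, q₂, n₂, c₂, w₂⟩ := (g : GrMod.sect 𝒜 ℳ n (op V)).2 x
    refine ⟨V₁ ⊓ V₂, ⟨hV₁, hV₂⟩, homOfLE (inf_le_left.trans i₁.le), a₁ + a₂, b₁ + b₂,
      ⟨p₁.1 • p₂.1, SetLike.GradedSMul.smul_mem p₁.2 p₂.2⟩, ⟨q₁.1 * q₂.1, SetLike.mul_mem_graded q₁.2 q₂.2⟩,
      fun y hm => (y.1.isPrime.mem_or_mem hm).elim (n₁ ⟨y.1, y.2.1⟩) (n₂ ⟨y.1, y.2.2⟩), ?_, fun y => ?_⟩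
    · rcases c₁ with c₁ | c₁
      · rcases c₂ with c₂ | c₂
        · exact Or.inl (by push_cast; omega)
        · exact Or.inr (show p₁.1 • p₂.1 = 0 by rw [c₂, smul_zero])
      · exact Or.inr (show p₁.1 • p₂.1 = 0 by rw [c₁, zero_smul])
    · show ((f : GrTwist.sectN (𝒜 := 𝒜) m (op V)).1 (i₁ ⟨y.1, y.2.1⟩)).1 •
        ((g : GrMod.sect 𝒜 ℳ n (op V)).1 (i₂ ⟨y.1, y.2.2⟩)).1 = _
      rw [w₁ ⟨y.1, y.2.1⟩, w₂ ⟨y.1, y.2.2⟩, LocalizedModule.mk_smul_mk]
      rfl⟩ : GrMod.sect 𝒜 ℳ k (op V))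

lemma valAt_actS {m n k : ℤ} (h : m + n = k) {V : (Proj 𝒜).Opens} (f : Γ(GrTwist.twist 𝒜 m, V))
    (g : Γ(GrMod.tilde 𝒜 ℳ n, V)) (x : V) : valAt (actS h f g) x = GrTwist.val f x • valAt g x := rfl

variable (𝒜 ℳ) in
/-- The action pairing `O(m) × M(n)~ → M(m + n)~`. -/
def actPairing (m n k : ℤ) (h : m + n = k) :
    ProjTwistLib.Pairing (GrTwist.twist 𝒜 m) (GrMod.tilde 𝒜 ℳ n) (GrMod.tilde 𝒜 ℳ k) where
  f V := AddMonoidHom.mk' (fun f => AddMonoidHom.mk' (fun g => actS h f g)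
      fun g g' => sect_ext fun x => by rw [valAt_actS, valAt_add, smul_add]; rfl)
    fun f f' => AddMonoidHom.ext fun g => sect_ext fun x => by
      show valAt (actS h (f + f') g) x = valAt (actS h f g + actS h f' g) x
      rw [valAt_add, valAt_actS, valAt_actS, valAt_actS]
      exact add_smul _ _ _
  smul_left V r f g := sect_ext fun x => by
    show valAt (actS h (r • f) g) x = valAt (r • actS h f g) x
    rw [valAt_smul, valAt_actS, valAt_actS, smul_smul]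
    exact congrArg (· • valAt g x) (GrTwist.coe_smul_val m x.1 _ _)
  smul_right V r f g := sect_ext fun x => by
    show valAt (actS h f (r • g)) x = valAt (r • actS h f g) x
    rw [valAt_smul, valAt_actS, valAt_actS, valAt_smul, smul_comm]
  fres _ _ _ := rfl

lemma actS_frac_bijective {i j : ℕ} (a : 𝒜 i) (s : 𝒜 j) {m n k : ℤ} (h : m + n = k) (he : (i : ℤ) = j + m)
    {V : (Proj 𝒜).Opens} (hs : V ≤ Proj.basicOpen 𝒜 s.1) (ha : V ≤ Proj.basicOpen 𝒜 a.1) :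
    Function.Bijective (actS (ℳ := ℳ) h (fracT 𝒜 a s m he hs)) := by
  have h' : -m + k = n := by omega
  refine Function.bijective_iff_has_inverse.2 ⟨actS h' (fracT 𝒜 s a (-m) (by omega) ha), ?_, ?_⟩
  · intro g
    refine sect_ext fun x => ?_
    rw [valAt_actS, valAt_actS, smul_smul]
    refine (congrArg (· • valAt g x) ?_).trans (one_smul _ _)
    show Localization.mk s.1 _ * Localization.mk a.1 _ = 1
    rw [Localization.mk_mul, ← Localization.mk_one, Localization.mk_eq_mk_iff, Localization.r_iff_exists]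
    exact ⟨1, by simp [mul_comm]⟩
  · intro g
    refine sect_ext fun x => ?_
    rw [valAt_actS, valAt_actS, smul_smul]
    refine (congrArg (· • valAt g x) ?_).trans (one_smul _ _)
    show Localization.mk a.1 _ * Localization.mk s.1 _ = 1
    rw [Localization.mk_mul, ← Localization.mk_one, Localization.mk_eq_mk_iff, Localization.r_iff_exists]
    exact ⟨1, by simp [mul_comm]⟩

/-- A pairing transported along morphisms. -/
def pairingMap {X : Scheme.{u}} {M N N' P P' : X.Modules} (φ : ProjTwistLib.Pairing M N P) (a : N' ⟶ N)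
    (b : P ⟶ P') : ProjTwistLib.Pairing M N' P' where
  f V := AddMonoidHom.mk' (fun s => (b.app V).hom.comp ((φ.f V s).comp (a.app V).hom)) fun s s' =>
    AddMonoidHom.ext fun t => by
      show b.app V (φ.f V (s + s') (a.app V t)) = b.app V (φ.f V s (a.app V t)) + b.app V (φ.f V s' (a.app V t))
      rw [map_add, AddMonoidHom.add_apply, map_add]
  smul_left V r s t := by
    show b.app V (φ.f V (r • s) (a.app V t)) = r • b.app V (φ.f V s (a.app V t))
    rw [φ.smul_left, Scheme.Modules.Hom.app_smul]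
  smul_right V r s t := by
    show b.app V (φ.f V s (a.app V (r • t))) = r • b.app V (φ.f V s (a.app V t))
    rw [Scheme.Modules.Hom.app_smul, φ.smul_right, Scheme.Modules.Hom.app_smul]
  fres {U V} hVU s t := by
    show b.app V (φ.f V _ (a.app V (N'.presheaf.map (homOfLE hVU).op t))) =
      P'.presheaf.map (homOfLE hVU).op (b.app U (φ.f U s (a.app U t)))
    rw [show a.app V (N'.presheaf.map (homOfLE hVU).op t) = N.presheaf.map (homOfLE hVU).op (a.app U t) from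
      ConcreteCategory.congr_hom (a.mapPresheaf.naturality (homOfLE hVU).op) t, φ.fres]
    exact ConcreteCategory.congr_hom (b.mapPresheaf.naturality (homOfLE hVU).op) _

variable (𝒜) in
/-- The multiplication pairing of twisting sheaves. -/
def mulPairing (m n k : ℤ) (h : m + n = k) :
    ProjTwistLib.Pairing (GrTwist.twist 𝒜 m) (GrTwist.twist 𝒜 n) (GrTwist.twist 𝒜 k) :=
  pairingMap (actPairing 𝒜 𝒜 m n k h) (twistToTilde 𝒜 n) (twistIso 𝒜 k).inv

lemma val_mulPairing {m n k : ℤ} (h : m + n = k) {V : (Proj 𝒜).Opens} (f : Γ(GrTwist.twist 𝒜 m, V))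
    (g : Γ(GrTwist.twist 𝒜 n, V)) (x : V) :
    GrTwist.val ((mulPairing 𝒜 m n k h).f V f g) x = GrTwist.val f x * GrTwist.val g x := by
  have e : (twistToTilde 𝒜 k).app V ((mulPairing 𝒜 m n k h).f V f g) = actS h f ((twistToTilde 𝒜 n).app V g) :=
    ConcreteCategory.congr_hom (congrArg (fun φ => Scheme.Modules.Hom.app φ V) (twistIso 𝒜 k).inv_hom_id) _
  exact congrArg (fun z => valAt z x) e

/-! ### Fractions of degree `n` without zeros -/

/-- `O(n)` has a generator `a / s` near `x`. -/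
def HasUnit (𝒜 : ℕ → σ) [GradedRing 𝒜] (n : ℤ) (x : Proj 𝒜) : Prop :=
  ∃ (i j : ℕ) (a : 𝒜 i) (s : 𝒜 j), (i : ℤ) = j + n ∧ x ∈ Proj.basicOpen 𝒜 a.1 ∧ x ∈ Proj.basicOpen 𝒜 s.1

theorem hasUnit_of_dvd {d : ℕ} {g : A} (hg : g ∈ 𝒜 d) {x : Proj 𝒜} (hx : x ∈ Proj.basicOpen 𝒜 g) {n : ℤ}
    (hn : (d : ℤ) ∣ n) : HasUnit 𝒜 n x := by
  obtain ⟨c, rfl⟩ := hn
  have hp : ∀ k : ℕ, g ^ k ∈ 𝒜 (k * d) := fun k => by
    simpa using SetLike.pow_mem_graded k hg
  have hxp : ∀ k : ℕ, x ∈ Proj.basicOpen 𝒜 (g ^ k) := fun k h =>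
    hx (x.isPrime.mem_of_pow_mem k h)
  refine ⟨c.toNat * d, (-c).toNat * d, ⟨_, hp _⟩, ⟨_, hp _⟩, ?_, hxp _, hxp _⟩
  push_cast
  have : (c.toNat : ℤ) - ((-c).toNat : ℤ) = c := by omega
  linear_combination (d : ℤ) * this

theorem hasUnit_of_span (hgen : (HomogeneousIdeal.irrelevant 𝒜).toIdeal = Ideal.span (𝒜 1 : Set A))
    (x : Proj 𝒜) (n : ℤ) : HasUnit 𝒜 n x := by
  obtain ⟨g, hg⟩ := exists_mem_one_notMem hgen x
  exact hasUnit_of_dvd g.2 hg (by simp)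

theorem HasUnit.neg {n : ℤ} {x : Proj 𝒜} (h : HasUnit 𝒜 n x) : HasUnit 𝒜 (-n) x := by
  obtain ⟨i, j, a, s, he, ha, hs⟩ := h
  exact ⟨j, i, s, a, by omega, hs, ha⟩

end Groth.Agent.GrModLib
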