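import Groth.Agent.GrModLib.Eventually
import Groth.Agent.GrModLib.Comap
import Groth.Agent.RelTildeLib.FamInst

/-!
# A bound on socles and first relations that is local on the base

`IsBound 𝒜 ℳ B` is independent of the choice of generators of the irrelevant ideal, passes to degree zero
localisations and glues along degree zero elements generating the unit ideal.
-/

set_option autoImplicit false
set_option linter.style.haveILetI false
set_option linter.unusedSectionVars false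
set_option backward.isDefEq.respectTransparency false

universe u

open CategoryTheory TopologicalSpace AlgebraicGeometry Opposite DirectSum
open scoped HomogeneousIdeal

noncomputable section

namespace Groth.Agent.GrModLib

variable {A σ : Type u} [CommRing A] [SetLike σ A] [AddSubgroupClass σ A] {𝒜 : ℕ → σ} [GradedRing 𝒜]
variable {M τ : Type u} [AddCommGroup M] [Module A M] [SetLike τ M] [AddSubgroupClass τ M]
  {ℳ : ℕ → τ} [DirectSum.Decomposition ℳ] [SetLike.GradedSMul 𝒜 ℳ]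

theorem mem_add_of_zero {a : A} (ha : a ∈ 𝒜 0) {n : ℕ} {z : M} (hz : z ∈ ℳ n) : a • z ∈ ℳ n :=
  mem_congr (Nat.zero_add n) (SetLike.GradedSMul.smul_mem ha hz)

theorem smul_eq_zero_of_span {S : Set A} {z : M} (h : ∀ a ∈ S, a • z = 0) {b : A} (hb : b ∈ Ideal.span S) :
    b • z = 0 := by
  induction hb using Submodule.span_induction with
  | mem a ha => exact h a ha
  | zero => exact zero_smul _ _
  | add a a' _ _ ha ha' => rw [add_smul, ha, ha', add_zero]
  | smul c a _ ha => rw [smul_eq_mul, mul_smul, ha, smul_zero]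

variable (𝒜 ℳ) in
/-- From degree `B` on: nothing is killed by the irrelevant ideal and compatible families come from one element. -/
structure IsBound (B : ℕ) : Prop where
  inj : ∀ n, B ≤ n → ∀ m ∈ ℳ n, (∀ a ∈ (𝒜₊).toIdeal, a • m = 0) → m = 0
  surj : ∀ n, B ≤ n → ∀ (ι : Type u) [Fintype ι] (g : ι → A) (d : ι → ℕ), (∀ i, g i ∈ 𝒜 (d i)) →
    (𝒜₊).toIdeal ≤ Ideal.span (Set.range g) →
    ∀ v : ι → M, (∀ i, v i ∈ ℳ (n + d i)) → (∀ i l, g l • v i = g i • v l) → ∃ m ∈ ℳ n, ∀ i, v i = g i • m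

/-- It is enough to check one family of generators. -/
theorem IsBound.of_gens {B : ℕ} {κ : Type u} [Fintype κ] (h : κ → A) (e : κ → ℕ) (he : ∀ l, 0 < e l)
    (hh : ∀ l, h l ∈ 𝒜 (e l)) (hirr : (𝒜₊).toIdeal ≤ Ideal.span (Set.range h))
    (hB : ∀ n, B ≤ n →
      (∀ v : κ → M, (∀ i, v i ∈ ℳ (n + e i)) → (∀ i l, h l • v i = h i • v l) → ∃ m ∈ ℳ n, ∀ i, v i = h i • m) ∧
      (∀ m ∈ ℳ n, (∀ i, h i • m = 0) → m = 0)) : IsBound 𝒜 ℳ B := by
  classical
  have hinj : ∀ n, B ≤ n → ∀ m ∈ ℳ n, (∀ a ∈ (𝒜₊).toIdeal, a • m = 0) → m = 0 := fun n hn m hm h0 =>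
    (hB n hn).2 m hm fun l => h0 _ (HomogeneousIdeal.mem_irrelevant_of_mem 𝒜 (he l) (hh l))
  refine ⟨hinj, fun n hn ι _ g d hg hirr' v hv hrel => ?_⟩
  have hb : ∀ l, ∃ b : ι → A, ∑ i, b i * g i = h l := fun l =>
    Ideal.mem_span_range_iff_exists_fun.1 (hirr' (HomogeneousIdeal.mem_irrelevant_of_mem 𝒜 (he l) (hh l)))
  choose b hb using hb
  let w : κ → M := fun l => cp ℳ (n + e l) (∑ i, b l i • v i)
  have key : ∀ l q, g q • w l = h l • v q := fun l q => by
    have h1 : g q • (∑ i, b l i • v i) = h l • v q := by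
      rw [← hb l, Finset.smul_sum, Finset.sum_smul]
      exact Finset.sum_congr rfl fun i _ => by rw [smul_comm, hrel, smul_smul]
    calc g q • w l = cp ℳ (d q + (n + e l)) (g q • ∑ i, b l i • v i) := (cp_smul (hg q) _ _).symm
      _ = cp ℳ (d q + (n + e l)) (h l • v q) := by rw [h1]
      _ = h l • v q := cp_same (mem_congr (by simp only [vadd_eq_add]; omega) (SetLike.GradedSMul.smul_mem (hh l) (hv q)))
  have hw : ∀ l l', h l' • w l = h l • w l' := fun l l' => by
    refine sub_eq_zero.1 (hinj (n + e l + e l') (by omega) _ (sub_mem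
      (mem_congr (by simp only [vadd_eq_add]; omega) (SetLike.GradedSMul.smul_mem (hh l') (cp_mem (n + e l) _)))
      (mem_congr (by simp only [vadd_eq_add]; omega) (SetLike.GradedSMul.smul_mem (hh l) (cp_mem (n + e l') _)))) fun a ha => ?_)
    refine smul_eq_zero_of_span ?_ (hirr' ha)
    rintro _ ⟨q, rfl⟩
    rw [smul_sub, smul_comm (g q) (h l') (w l), smul_comm (g q) (h l) (w l'), key, key, smul_comm, sub_self]
  obtain ⟨m, hm, hwm⟩ := (hB n hn).1 w (fun l => cp_mem _ _) hw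
  refine ⟨m, hm, fun q => ?_⟩
  refine sub_eq_zero.1 ((hB (n + d q) (by omega)).2 _
    (sub_mem (hv q) (mem_congr (by simp only [vadd_eq_add]; omega) (SetLike.GradedSMul.smul_mem (hg q) hm))) fun l => ?_)
  rw [smul_sub, ← key l q, hwm l, smul_comm, sub_self]

theorem exists_bound [IsNoetherianRing A]
    {k : ℕ} (hTF : (Submodule.span A (⋃ i ∈ Set.Ici k, (ℳ i : Set M))).FG) :
    ∃ B, IsBound 𝒜 ℳ B := by
  classical
  obtain ⟨G, hG, hspan⟩ := exists_homogeneous_gens (𝒜 := 𝒜) (IsNoetherian.noetherian _)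
  choose! e hepos hedeg using hG
  have hirr : (HomogeneousIdeal.irrelevant 𝒜).toIdeal ≤ Ideal.span (Set.range fun i : {x // x ∈ G} => i.1) := by
    rw [show (Set.range fun i : {x // x ∈ G} => i.1) = (G : Set A) by ext; simp, hspan]
  obtain ⟨B, hB⟩ := socle_bound (ℳ := ℳ) _ (fun i : {x // x ∈ G} => e i.1) (fun i => hedeg _ i.2) hirr _ hTF k
    fun n hn z hz => Submodule.subset_span (Set.mem_biUnion (x := n) hn hz)
  exact ⟨B, .of_gens _ _ (fun i => hepos _ i.2) (fun i => hedeg _ i.2) hirr hB⟩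

theorem IsBound.bijective {B : ℕ} (h : IsBound 𝒜 ℳ B) (hfg : (𝒜₊).toIdeal.FG) :
    ∀ n, B ≤ n → Function.Bijective (GrMod.alpha 𝒜 ℳ n) := by
  classical
  obtain ⟨G, hG, hspan⟩ := exists_homogeneous_gens (𝒜 := 𝒜) hfg
  choose! e hepos hedeg using hG
  have hirr : (HomogeneousIdeal.irrelevant 𝒜).toIdeal ≤ Ideal.span (Set.range fun i : {x // x ∈ G} => i.1) := by
    rw [show (Set.range fun i : {x // x ∈ G} => i.1) = (G : Set A) by ext; simp, hspan]
  refine bijective_of_bound _ (fun i : {x // x ∈ G} => e i.1) (fun i => hepos _ i.2) (fun i => hedeg _ i.2) hirr B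
    fun n hn => ⟨fun v hv hrel => h.surj n hn _ _ _ (fun i => hedeg _ i.2) hirr v hv hrel,
      fun m hm hgm => h.inj n hn m hm fun a ha => smul_eq_zero_of_span ?_ (hirr ha)⟩
  rintro _ ⟨i, rfl⟩
  exact hgm i

section Loc

variable {B' σ' : Type u} [CommRing B'] [SetLike σ' B'] [AddSubgroupClass σ' B'] {ℬ : ℕ → σ'} [GradedRing ℬ]
variable {N τ' : Type u} [AddCommGroup N] [Module B' N] [SetLike τ' N] [AddSubgroupClass τ' N]
  {𝒩 : ℕ → τ'} [DirectSum.Decomposition 𝒩] [SetLike.GradedSMul ℬ 𝒩]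
variable {ψ : 𝒜 →+*ᵍ ℬ} {v : M →ₛₗ[ψ.toRingHom] N} {c : A}

theorem IsDegLoc.map_pow_smul_inj (hd : IsDegLoc ψ ℳ 𝒩 v c) (k : ℕ) {x y : N}
    (h : ψ (c ^ k) • x = ψ (c ^ k) • y) : x = y := by
  have hu : IsUnit (ψ (c ^ k)) := by rw [map_pow]; exact hd.isUnit.pow k
  exact hu.smul_left_cancel.1 h

theorem IsDegLoc.map_smul' (_ : IsDegLoc ψ ℳ 𝒩 v c) (a : A) (m : M) : v (a • m) = ψ a • v m :=
  LinearMap.map_smulₛₗ v a m

theorem IsBound.map (hd : IsDegLoc ψ ℳ 𝒩 v c) (hψ : ℬ₊ ≤ (𝒜₊).map ψ) {B : ℕ} (h : IsBound 𝒜 ℳ B)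
    (hfg : (𝒜₊).toIdeal.FG) : IsBound ℬ 𝒩 B := by
  classical
  obtain ⟨G, hG, hspan⟩ := exists_homogeneous_gens (𝒜 := 𝒜) hfg
  choose! e hepos hedeg using hG
  have hirr : (HomogeneousIdeal.irrelevant 𝒜).toIdeal ≤ Ideal.span (Set.range fun i : {x // x ∈ G} => i.1) := by
    rw [show (Set.range fun i : {x // x ∈ G} => i.1) = (G : Set A) by ext; simp, hspan]
  have hirr' : (ℬ₊).toIdeal ≤ Ideal.span (Set.range fun i : {x // x ∈ G} => ψ i.1) := by
    refine le_trans hψ (le_trans (Ideal.map_mono hirr) (le_of_eq ?_))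
    rw [Ideal.map_span, ← Set.range_comp]
    rfl
  refine .of_gens (fun i : {x // x ∈ G} => ψ i.1) (fun i => e i.1) (fun i => hepos _ i.2)
    (fun i => ψ.map_mem (hedeg _ i.2)) hirr' fun n hn => ⟨fun w hw hrel => ?_, fun z hz hgz => ?_⟩
  · have hl : ∀ i, ∃ (k : ℕ) (m : ℳ (n + e i.1)), v m.1 = ψ (c ^ k) • w i := fun i => hd.exists_num ⟨w i, hw i⟩
    choose k m hm using hl
    let K := Finset.univ.sup k
    let m' : {x // x ∈ G} → M := fun i => c ^ (K - k i) • (m i).1
    have hm'mem : ∀ i, m' i ∈ ℳ (n + e i.1) := fun i =>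
      mem_add_of_zero (by simpa using SetLike.pow_mem_graded (K - k i) hd.mem_zero) (m i).2
    have hm' : ∀ i, v (m' i) = ψ (c ^ K) • w i := fun i => by
      rw [hd.map_smul', hm, smul_smul, ← map_mul, ← pow_add,
        Nat.sub_add_cancel (Finset.le_sup (Finset.mem_univ i))]
    clear_value m'
    have hk : ∀ i l, ∃ p : ℕ, c ^ p • (l.1 • m' i - i.1 • m' l) = 0 := fun i l => hd.kill _ (by
      rw [map_sub, hd.map_smul', hd.map_smul', hm', hm', smul_comm (ψ l.1), smul_comm (ψ i.1), hrel, sub_self])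
    choose p hp using hk
    let P := Finset.univ.sup fun i => Finset.univ.sup (p i)
    have hc : ∀ i l, l.1 • (c ^ P • m' i) = i.1 • (c ^ P • m' l) := fun i l => by
      have hle : p i l ≤ P := le_trans (Finset.le_sup (Finset.mem_univ l))
        (Finset.le_sup (f := fun i => Finset.univ.sup (p i)) (Finset.mem_univ i))
      have h0 : c ^ P • (l.1 • m' i - i.1 • m' l) = 0 := by
        rw [← Nat.sub_add_cancel hle, pow_add, mul_smul, hp, smul_zero]
      rw [smul_sub, sub_eq_zero] at h0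
      rw [smul_comm l.1, smul_comm i.1]
      exact h0
    obtain ⟨m₀, hm₀, hm₀'⟩ := h.surj n hn _ (fun i : {x // x ∈ G} => i.1) (fun i => e i.1) (fun i => hedeg _ i.2) hirr
      (fun i => c ^ P • m' i)
      (fun i => mem_add_of_zero (by simpa using SetLike.pow_mem_graded P hd.mem_zero) (hm'mem i)) hc
    obtain ⟨u, hu⟩ : IsUnit (ψ (c ^ P * c ^ K)) := by
      rw [map_mul, map_pow, map_pow]; exact (hd.isUnit.pow P).mul (hd.isUnit.pow K)
    let z := cp 𝒩 n ((↑u⁻¹ : B') • v m₀)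
    have hψu : ψ (c ^ P * c ^ K) ∈ ℬ 0 := ψ.map_mem (by
      simpa using SetLike.mul_mem_graded (SetLike.pow_mem_graded P hd.mem_zero) (SetLike.pow_mem_graded K hd.mem_zero))
    have hz : ψ (c ^ P * c ^ K) • z = v m₀ := by
      have h1 := cp_smul (ℳ := 𝒩) hψu n ((↑u⁻¹ : B') • v m₀)
      rw [smul_smul, ← hu, Units.mul_inv, one_smul, zero_add, cp_same (hd.mem n m₀ hm₀)] at h1
      rw [← hu]
      exact h1.symm
    refine ⟨z, cp_mem _ _, fun i => ?_⟩
    have hcancel : ∀ a b : N, ψ (c ^ P * c ^ K) • a = ψ (c ^ P * c ^ K) • b → a = b := fun a b hab => by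
      rw [← pow_add] at hab
      exact hd.map_pow_smul_inj _ hab
    refine hcancel _ _ ?_
    rw [smul_comm, hz, ← hd.map_smul', ← hm₀' i, hd.map_smul', hm', map_mul, mul_smul]
  · obtain ⟨k, m, hm⟩ := hd.exists_num ⟨z, hz⟩
    have hk : ∀ i : {x // x ∈ G}, ∃ p : ℕ, c ^ p • i.1 • m.1 = 0 := fun i => hd.kill _ (by
      rw [hd.map_smul', hm, smul_comm, hgz, smul_zero])
    choose p hp using hk
    let P := Finset.univ.sup p
    have h0 : c ^ P • m.1 = 0 := h.inj n hn _
      (mem_add_of_zero (by simpa using SetLike.pow_mem_graded P hd.mem_zero) m.2) fun a ha => by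
        refine smul_eq_zero_of_span ?_ (hirr ha)
        rintro _ ⟨i, rfl⟩
        rw [smul_comm, ← Nat.sub_add_cancel (show p i ≤ P from Finset.le_sup (Finset.mem_univ i)), pow_add, mul_smul, hp, smul_zero]
    refine hd.map_pow_smul_inj (P + k) ?_
    rw [smul_zero, pow_add, map_mul, mul_smul, ← hm, ← hd.map_smul', h0, map_zero]

end Loc

end Groth.Agent.GrModLib

namespace Groth.Agent.RelTildeLib.Fam

open Groth.Agent.GrModLib

variable {Y : Scheme.{u}} {𝒮 : RelProj.QCGrAlg Y} (F : Fam 𝒮)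

theorem irrelevant_map_le {U V : Y.Opens} (hU : IsAffineOpen U) (hV : IsAffineOpen V) (i : V ≤ U)
    {a : 𝒮.presheaf.obj (op U)} (ha : a ∈ ((𝒮.deg U hU)₊).toIdeal) :
    𝒮.res hU hV i a ∈ ((𝒮.deg V hV)₊).toIdeal := by
  refine (HomogeneousIdeal.mem_irrelevant_iff _ _).2 ?_
  rw [GradedRing.proj_apply, ← GradedRingHom.map_directSumDecompose]
  have h0 := (HomogeneousIdeal.mem_irrelevant_iff _ _).1 ha
  rw [GradedRing.proj_apply] at h0
  rw [h0, map_zero]

/-- The bound passes to basic opens. -/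
theorem isBound_basicOpen {B : ℕ} (U : Y.Opens) (hU : IsAffineOpen U) (r : Γ(Y, U))
    (hfg : ((𝒮.deg U hU)₊).toIdeal.FG) (h : IsBound (𝒮.deg U hU) (F.deg U hU) B) :
    IsBound (𝒮.deg (Y.basicOpen r) (hU.basicOpen r)) (F.deg (Y.basicOpen r) (hU.basicOpen r)) B :=
  h.map (F.loc U hU r) (Fam.hψ hU (hU.basicOpen r) ⟨r, rfl⟩) hfg

theorem isBound_congr {B : ℕ} {U U' : Y.Opens} (e : U = U') {hU : IsAffineOpen U} {hU' : IsAffineOpen U'}
    (h : IsBound (𝒮.deg U hU) (F.deg U hU) B) : IsBound (𝒮.deg U' hU') (F.deg U' hU') B := by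
  subst e; exact h

/-- Basic opens with generating elements recover the bound. -/
theorem isBound_of_cover {B : ℕ} (V : Y.Opens) (hV : IsAffineOpen V) (S : Set Γ(Y, V)) (hS : Ideal.span S = ⊤)
    (hfg : ((𝒮.deg V hV)₊).toIdeal.FG)
    (h : ∀ r ∈ S, IsBound (𝒮.deg (Y.basicOpen r) (hV.basicOpen r)) (F.deg (Y.basicOpen r) (hV.basicOpen r)) B) :
    IsBound (𝒮.deg V hV) (F.deg V hV) B := by
  classical
  let str : Γ(Y, V) →+* 𝒮.presheaf.obj (op V) := (𝒮.str.app (op V)).hom
  have hstr : ∀ a, str a ∈ 𝒮.deg V hV 0 := 𝒮.str_mem V hV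
  have htop : ∀ I : Ideal Γ(Y, V), (∀ r ∈ S, ∃ k : ℕ, r ^ k ∈ I) → (1 : Γ(Y, V)) ∈ I := fun I hI => by
    have h1 : I.radical = ⊤ := eq_top_iff.2 (hS ▸ Ideal.span_le.2 fun r hr => hI r hr)
    exact (Ideal.eq_top_iff_one I).1 (Ideal.radical_eq_top.1 h1)
  refine ⟨fun n hn m hm h0 => ?_, fun n hn ι _ g d hg hirr v hv hrel => ?_⟩
  · let I : Ideal Γ(Y, V) :=
      { carrier := {a | str a • m = 0}
        add_mem' := fun {a b} (ha : str a • m = 0) (hb : str b • m = 0) =>
          show str (a + b) • m = 0 by rw [map_add, add_smul, ha, hb, add_zero]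
        zero_mem' := show str 0 • m = 0 by rw [map_zero, zero_smul]
        smul_mem' := fun a b (hb : str b • m = 0) =>
          show str (a * b) • m = 0 by rw [map_mul, mul_smul, hb, smul_zero] }
    suffices hI : (1 : Γ(Y, V)) ∈ I by
      have h1 : str 1 • m = 0 := hI
      rwa [map_one, one_smul] at h1
    refine htop I fun r hr => ?_
    have hl := F.loc V hV r
    have h1 : F.res hV (hV.basicOpen r) (Y.basicOpen_le r) m = 0 := (h r hr).inj n hn _ (hl.mem n m hm) fun b hb => by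
      refine smul_eq_zero_of_span ?_ (Fam.hψ hV (hV.basicOpen r) ⟨r, rfl⟩ hb)
      rintro _ ⟨a, ha, rfl⟩
      exact (hl.map_smul' a m).symm.trans ((congrArg _ (h0 a ha)).trans (map_zero _))
    obtain ⟨k, hk⟩ := hl.kill m h1
    exact ⟨k, show str (r ^ k) • m = 0 by rw [map_pow]; exact hk⟩
  · let I : Ideal Γ(Y, V) :=
      { carrier := {a | ∃ z ∈ F.deg V hV n, ∀ i, g i • z = str a • v i}
        add_mem' := fun {a b} ⟨z, hz, ha⟩ ⟨z', hz', hb⟩ =>
          ⟨z + z', add_mem hz hz', fun i => by rw [smul_add, ha, hb, map_add, add_smul]⟩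
        zero_mem' := ⟨0, zero_mem _, fun i => by rw [smul_zero, map_zero, zero_smul]⟩
        smul_mem' := fun a b ⟨z, hz, hb⟩ =>
          ⟨str a • z, mem_add_of_zero (hstr a) hz, fun i => by
            rw [smul_comm, hb, smul_eq_mul, map_mul, mul_smul]⟩ }
    suffices hI : (1 : Γ(Y, V)) ∈ I by
      obtain ⟨z, hz, hzv⟩ := hI
      exact ⟨z, hz, fun i => by rw [hzv i, map_one, one_smul]⟩
    refine htop I fun r hr => ?_
    have hl := F.loc V hV r
    set ψ := 𝒮.res hV (hV.basicOpen r) (Y.basicOpen_le r)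
    have hirr' : ((𝒮.deg (Y.basicOpen r) (hV.basicOpen r))₊).toIdeal ≤ Ideal.span (Set.range fun i => ψ (g i)) := by
      refine le_trans (Fam.hψ hV (hV.basicOpen r) ⟨r, rfl⟩) (le_trans (Ideal.map_mono hirr) (le_of_eq ?_))
      rw [Ideal.map_span, ← Set.range_comp]
      rfl
    obtain ⟨z, hz, hzv⟩ := (h r hr).surj n hn ι (fun i => ψ (g i)) d (fun i => ψ.map_mem (hg i)) hirr'
      (fun i => F.res hV (hV.basicOpen r) (Y.basicOpen_le r) (v i)) (fun i => hl.mem _ _ (hv i))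
      (fun i l => by rw [← hl.map_smul', ← hl.map_smul', hrel])
    obtain ⟨k, m, hm⟩ := hl.exists_num ⟨z, hz⟩
    have hk : ∀ i, ∃ p : ℕ, str r ^ p • (g i • m.1 - str r ^ k • v i) = 0 := fun i => hl.kill _ (by
      rw [map_sub, hl.map_smul', hl.map_smul', hm, hzv i, smul_comm, sub_self])
    choose p hp using hk
    let P := Finset.univ.sup p
    refine ⟨P + k, str r ^ P • m.1, mem_add_of_zero (by simpa using SetLike.pow_mem_graded P (hstr r)) m.2, fun i => ?_⟩
    have h1 : str r ^ P • (g i • m.1 - str r ^ k • v i) = 0 := by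
      rw [← Nat.sub_add_cancel (show p i ≤ P from Finset.le_sup (Finset.mem_univ i)), pow_add, mul_smul, hp, smul_zero]
    rw [smul_sub, sub_eq_zero, smul_smul (str r ^ P) (str r ^ k), ← pow_add, ← map_pow str r (P + k)] at h1
    rw [smul_comm]
    exact h1

end Groth.Agent.RelTildeLib.Fam
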